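import Mathlib

/-! # Pulling finite constructible stratifications back along a morphism of schemes -/

set_option autoImplicit false

open CategoryTheory CategoryTheory.Limits AlgebraicGeometry Topology TopologicalSpace

universe u

namespace Groth.Agent.H25Constr

variable {X Y : Scheme.{u}}

/-- A finite partition of `S` into constructible locally closed pieces each of which satisfies `P`. -/
def Strata (P : ∀ ⦃T : Scheme.{u}⦄, (T ⟶ X) → Prop) (S : Set X) : Prop :=
  ∃ (n : ℕ) (T : Fin n → Scheme.{u}) (g : ∀ i, T i ⟶ X),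
    (∀ i, IsImmersion (g i)) ∧
    (∀ i, Topology.IsConstructible ((Subtype.val : S → X) ⁻¹' Set.range (g i))) ∧
    Pairwise (fun i j => Disjoint (Set.range (g i)) (Set.range (g j))) ∧
    (⋃ i, Set.range (g i)) = S ∧
    ∀ i, P (g i)

theorem strata_congr {P Q : ∀ ⦃T : Scheme.{u}⦄, (T ⟶ X) → Prop} {S : Set X}
    (h : ∀ ⦃T : Scheme.{u}⦄ (g : T ⟶ X), IsImmersion g → P g → Q g) (hP : Strata P S) : Strata Q S := by
  obtain ⟨n, T, g, h1, h2, h3, h4, h5⟩ := hP
  exact ⟨n, T, g, h1, h2, h3, h4, fun i => h _ (h1 i) (h5 i)⟩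

theorem strata_comp (f : X ⟶ Y) (P : ∀ ⦃T : Scheme.{u}⦄, (T ⟶ Y) → Prop)
    (hres : ∀ ⦃T T' : Scheme.{u}⦄ (a : T' ⟶ T) (g : T ⟶ Y), IsImmersion g → P g → P (a ≫ g))
    (hY : ∀ U : Y.Opens, IsAffineOpen U → Strata P (U : Set Y))
    (V : X.Opens) (hV : IsAffineOpen V) :
    Strata (fun _ g => P (g ≫ f)) (V : Set X) := by
  classical
  have hloc : ∀ x : V, ∃ (U : Y.Opens) (W : X.Opens), IsAffineOpen U ∧ IsAffineOpen W ∧ x.1 ∈ W ∧
      W ≤ V ∧ W ≤ f ⁻¹ᵁ U := by
    intro x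
    obtain ⟨U, hU, hxU, -⟩ := exists_isAffineOpen_mem_and_subset (X := Y) (x := f x.1) (U := ⊤) (by trivial)
    obtain ⟨W, hW, hxW, hWle⟩ := exists_isAffineOpen_mem_and_subset (X := X) (x := x.1) (U := V ⊓ f ⁻¹ᵁ U)
      ⟨x.2, hxU⟩
    exact ⟨U, W, hU, hW, hxW, fun y hy => (hWle hy).1, fun y hy => (hWle hy).2⟩
  choose U W hU hW hxW hWV hWU using hloc
  obtain ⟨t, ht⟩ := hV.isCompact.elim_finite_subcover (fun x => (W x : Set X)) (fun x => (W x).isOpen)
    (fun y hy => Set.mem_iUnion.mpr ⟨⟨y, hy⟩, hxW _⟩)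
  obtain ⟨m, ⟨e⟩⟩ : ∃ m, Nonempty (Fin m ≃ t) := ⟨_, ⟨(Finset.equivFin t).symm⟩⟩
  choose n T g hg1 hg2 hg3 hg4 hg5 using fun j : Fin m => hY (U (e j).1) (hU _)
  -- the disjointified opens
  let C : Fin m → Set X := fun j => ⋃ l : {l : Fin m // l < j}, (W (e l.1).1 : Set X)
  have hCopen : ∀ j, IsOpen (C j) := fun j => isOpen_iUnion fun l => (W _).isOpen
  let Z : Fin m → Set X := fun j => (W (e j).1 : Set X) \ C j
  have hZclosed : ∀ j, IsClosed ((W (e j).1).ι ⁻¹' (C j)ᶜ) :=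
    fun j => (hCopen j).isClosed_compl.preimage (W (e j).1).ι.continuous
  let I : ∀ j, (W (e j).1).toScheme.IdealSheafData := fun j =>
    Scheme.IdealSheafData.vanishingIdeal ⟨_, hZclosed j⟩
  let z : ∀ j, (I j).subscheme ⟶ X := fun j => (I j).subschemeι ≫ (W (e j).1).ι
  have hz : ∀ j, Set.range (z j) = Z j := by
    intro j
    rw [Scheme.Hom.comp_base, TopCat.coe_comp, Set.range_comp, Scheme.IdealSheafData.range_subschemeι,
      Scheme.IdealSheafData.coe_support_vanishingIdeal]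
    show (W (e j).1).ι '' ((W (e j).1).ι ⁻¹' (C j)ᶜ) = _
    rw [Set.image_preimage_eq_inter_range, Scheme.Opens.range_ι]
    exact Set.inter_comm _ _
  let S : (Σ j : Fin m, Fin (n j)) → Scheme.{u} := fun p => pullback (z p.1 ≫ f) (g p.1 p.2)
  let s : ∀ p, S p ⟶ X := fun p => pullback.fst (z p.1 ≫ f) (g p.1 p.2) ≫ z p.1
  have hs : ∀ p, Set.range (s p) = Z p.1 ∩ f ⁻¹' Set.range (g p.1 p.2) := by
    intro p
    rw [Scheme.Hom.comp_base, TopCat.coe_comp, Set.range_comp, Scheme.Pullback.range_fst, ← hz p.1]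
    ext y
    constructor
    · rintro ⟨w, hw, rfl⟩
      exact ⟨⟨w, rfl⟩, hw⟩
    · rintro ⟨⟨w, rfl⟩, hy⟩
      exact ⟨w, hy, rfl⟩
  let σ : Fin (Fintype.card (Σ j : Fin m, Fin (n j))) ≃ Σ j : Fin m, Fin (n j) := (Fintype.equivFin _).symm
  refine ⟨_, fun i => S (σ i), fun i => s (σ i), fun i => ?_, fun i => ?_, ?_, ?_, fun i => ?_⟩
  · haveI := hg1 (σ i).1 (σ i).2
    infer_instance
  · -- constructibility
    show IsConstructible ((Subtype.val : ↥(V : Set X) → X) ⁻¹' Set.range (s (σ i)))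
    obtain ⟨⟨j, k⟩, hp⟩ : ∃ p, σ i = p := ⟨_, rfl⟩
    rw [hp, hs]
    dsimp only
    have hWc : ∀ l : Fin m, IsConstructible ((Subtype.val : ↥(V : Set X) → X) ⁻¹' (W (e l).1 : Set X)) := by
      intro l
      haveI : CompactSpace (V : Set X) := isCompact_iff_compactSpace.mp hV.isCompact
      haveI : QuasiSeparatedSpace (V : Set X) :=
        (isQuasiSeparated_iff_quasiSeparatedSpace _ V.isOpen).mp hV.isQuasiSeparated
      refine IsCompact.isConstructible ?_ ((W _).isOpen.preimage continuous_subtype_val)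
      rw [Topology.IsEmbedding.subtypeVal.isCompact_iff, Set.image_preimage_eq_inter_range,
        Subtype.range_coe, Set.inter_eq_left.mpr (hWV (e l).1)]
      exact (hW _).isCompact
    have hC : IsConstructible ((Subtype.val : ↥(V : Set X) → X) ⁻¹' C j) := by
      simp only [C, Set.preimage_iUnion]
      exact IsConstructible.iUnion fun l => hWc l.1
    -- the preimage of the stratum inside the affine chart
    let r := f.resLE (U (e j).1) (W (e j).1) (hWU _)
    haveI : IsAffine (W (e j).1).toScheme := hW _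
    haveI : IsAffine (U (e j).1).toScheme := hU _
    have h1 : IsConstructible (r ⁻¹' ((U (e j).1).ι ⁻¹' Set.range (g j k))) :=
      Scheme.Hom.isConstructible_preimage r (hg2 j k)
    let ι' : ↥(W (e j).1 : Set X) → ↥(V : Set X) := Set.inclusion (hWV _)
    have hι : IsOpenEmbedding ι' := IsOpenEmbedding.inclusion (hWV _) (by
      exact (W _).isOpen.preimage continuous_subtype_val)
    have hrange : IsRetrocompact (Set.range ι') := by
      haveI : CompactSpace (V : Set X) := isCompact_iff_compactSpace.mp hV.isCompact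
      haveI : QuasiSeparatedSpace (V : Set X) :=
        (isQuasiSeparated_iff_quasiSeparatedSpace _ V.isOpen).mp hV.isQuasiSeparated
      refine IsCompact.isRetrocompact ?_ hι.isOpen_range
      haveI : CompactSpace (W (e j).1 : Set X) := isCompact_iff_compactSpace.mp (hW _).isCompact
      exact isCompact_range hι.continuous
    have h2 := (h1.image_of_isOpenEmbedding hι hrange).sdiff hC
    convert h2 using 1
    ext ⟨y, hy⟩
    simp only [Set.mem_preimage, Set.mem_inter_iff, Set.mem_sdiff, Set.mem_image, Z]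
    constructor
    · rintro ⟨⟨hyW, hyC⟩, hyg⟩
      refine ⟨⟨⟨y, hyW⟩, ?_, rfl⟩, hyC⟩
      show (r ≫ (U (e j).1).ι) ⟨y, hyW⟩ ∈ Set.range (g j k)
      rw [Scheme.Hom.resLE_comp_ι]
      exact hyg
    · rintro ⟨⟨⟨w, hw⟩, hwg, hwy⟩, hyC⟩
      cases Subtype.ext_iff.mp hwy
      refine ⟨⟨hw, hyC⟩, ?_⟩
      change (r ≫ (U (e j).1).ι) ⟨_, hw⟩ ∈ Set.range (g j k) at hwg
      rwa [Scheme.Hom.resLE_comp_ι] at hwg
  · -- disjointness
    intro i i' hne
    have : σ i ≠ σ i' := fun h => hne (σ.injective h)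
    show Disjoint (Set.range (s (σ i))) (Set.range (s (σ i')))
    obtain ⟨⟨j, k⟩, hp⟩ : ∃ p, σ i = p := ⟨_, rfl⟩
    obtain ⟨⟨j', k'⟩, hq⟩ : ∃ p, σ i' = p := ⟨_, rfl⟩
    rw [hp, hq] at this ⊢
    rw [hs, hs]
    rcases lt_trichotomy j j' with hlt | rfl | hlt
    · refine Set.disjoint_left.mpr fun y hy hy' => hy'.1.2 ?_
      exact Set.mem_iUnion.mpr ⟨⟨j, hlt⟩, hy.1.1⟩
    · refine Set.disjoint_left.mpr fun y hy hy' => ?_
      have hkk : k ≠ k' := fun h => this (by rw [h])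
      exact Set.disjoint_left.mp (hg3 j hkk) hy.2 hy'.2
    · refine Set.disjoint_left.mpr fun y hy hy' => hy.1.2 ?_
      exact Set.mem_iUnion.mpr ⟨⟨j', hlt⟩, hy'.1.1⟩
  · -- union
    refine Set.Subset.antisymm (Set.iUnion_subset fun i => ?_) fun y hy => ?_
    · rw [hs]
      exact fun y hy => hWV _ hy.1.1
    · obtain ⟨x, hxt, hx⟩ : ∃ x ∈ t, y ∈ W x := by simpa using ht hy
      have hne : (Finset.univ.filter fun j : Fin m => y ∈ W (e j).1).Nonempty :=
        ⟨e.symm ⟨x, hxt⟩, by simpa using hx⟩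
      obtain ⟨j, hj, hmin⟩ := Finset.exists_min_image _ id hne
      simp only [Finset.mem_filter, Finset.mem_univ, true_and, id] at hj hmin
      have hyC : y ∉ C j := fun h => by
        obtain ⟨l, hl⟩ := Set.mem_iUnion.mp h
        exact absurd (hmin l.1 hl) (not_le.mpr l.2)
      have hfy : f y ∈ ⋃ k, Set.range (g j k) := by
        rw [hg4 j]
        exact hWU _ hj
      obtain ⟨k, hk⟩ := Set.mem_iUnion.mp hfy
      refine Set.mem_iUnion.mpr ⟨σ.symm ⟨j, k⟩, ?_⟩
      rw [hs, Equiv.apply_symm_apply]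
      exact ⟨⟨hj, hyC⟩, hk⟩
  · show P ((pullback.fst (z (σ i).1 ≫ f) (g (σ i).1 (σ i).2) ≫ z (σ i).1) ≫ f)
    have he : (pullback.fst (z (σ i).1 ≫ f) (g (σ i).1 (σ i).2) ≫ z (σ i).1) ≫ f =
        pullback.snd (z (σ i).1 ≫ f) (g (σ i).1 (σ i).2) ≫ g (σ i).1 (σ i).2 :=
      (Category.assoc _ _ _).trans pullback.condition
    exact he ▸ hres _ _ (hg1 _ _) (hg5 _ _)

end Groth.Agent.H25Constr
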