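import Mathlib

/-! # Finite étale algebras split étale locally -/

set_option autoImplicit false

open TensorProduct

universe u

namespace Groth.Agent.H25Constr

/-- An algebra homomorphism from a finite power of a ring to a field is an evaluation. -/
theorem pi_algHom_bijective {T Ω : Type*} [CommRing T] [Field Ω] [Algebra T Ω] (n : ℕ) :
    Function.Bijective fun i : Fin n => (Algebra.ofId T Ω).comp (Pi.evalAlgHom T (fun _ : Fin n => T) i) := by
  classical
  constructor
  · intro i j h
    by_contra hne
    have := DFunLike.congr_fun h (Pi.single i 1)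
    simp [Pi.single_eq_of_ne (Ne.symm hne)] at this
  · intro χ
    have hsum : ∀ v : Fin n → T, v = ∑ i, v i • (Pi.single i (1 : T) : Fin n → T) := fun v => by
      funext k
      simp [Finset.sum_apply, Pi.single_apply]
    obtain ⟨i, hi⟩ : ∃ i, χ (Pi.single i 1) ≠ 0 := by
      by_contra h
      push_neg at h
      have h1 := congrArg χ (hsum 1)
      simp [h, Algebra.smul_def] at h1
    have h0 : ∀ k, k ≠ i → χ (Pi.single k 1) = 0 := fun k hk => by
      have : χ (Pi.single k 1) * χ (Pi.single i 1) = 0 := by
        rw [← map_mul, ← Pi.single_mul_left]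
        simp [Pi.single_eq_of_ne hk.symm, Pi.single_eq_of_ne hk]
      exact (mul_eq_zero.mp this).resolve_right hi
    have h1 : χ (Pi.single i 1) = 1 := by
      have : χ (Pi.single i 1) * χ (Pi.single i 1) = χ (Pi.single i 1) := by
        rw [← map_mul, ← Pi.single_mul, one_mul]
      exact (mul_eq_left₀ hi).mp this
    refine ⟨i, AlgHom.ext fun v => ?_⟩
    conv_rhs => rw [hsum v, map_sum, Finset.sum_eq_single i (fun k _ hk => by simp [h0 k hk]) (by simp)]
    simp [h1, Algebra.smul_def]

/-- Etale locally around every prime a finite étale algebra is split: all points with values in fields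
are given by finitely many sections, exactly one for each. -/
theorem exists_split_sections {R A : Type u} [CommRing R] [CommRing A] [Algebra R A]
    [Algebra.Etale R A] [Module.Finite R A] (p : PrimeSpectrum R) :
    ∃ (T : Type u) (_ : CommRing T) (_ : Algebra R T) (n : ℕ) (σ : Fin n → A →ₐ[R] T),
      Algebra.Etale R T ∧ p ∈ Set.range (PrimeSpectrum.comap (algebraMap R T)) ∧
      ∀ (Ω : Type u) [Field Ω] [Algebra R Ω] (φ : T →ₐ[R] Ω),
        Function.Bijective fun i => φ.comp (σ i) := by
  haveI : Module.Flat R A := inferInstance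
  haveI : Module.FinitePresentation R A := Module.FinitePresentation.of_finite_of_finitePresentation R A
  set n := Module.rankAtStalk (R := R) A p with hn
  have hop : IsOpen {q | Module.rankAtStalk (R := R) A q = n} :=
    (Module.isLocallyConstant_rankAtStalk (R := R) (M := A)).isOpen_fiber n
  obtain ⟨_, ⟨r, rfl⟩, hpr, hr⟩ :=
    PrimeSpectrum.isTopologicalBasis_basic_opens.exists_subset_of_mem_open (u := {q | Module.rankAtStalk (R := R) A q = n})
      (a := p) rfl hop
  let R' := Localization.Away r
  let A' := R' ⊗[R] A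
  haveI : Algebra.Etale R R' := Algebra.Etale.of_isLocalizationAway r
  have hrank : Module.rankAtStalk (R := R') A' = n := by
    funext q
    rw [Module.rankAtStalk_baseChange]
    exact hr (show PrimeSpectrum.comap (algebraMap R R') q ∈ PrimeSpectrum.basicOpen r by
      rw [← SetLike.mem_coe, ← PrimeSpectrum.localization_away_comap_range R' r]
      exact ⟨q, rfl⟩)
  obtain ⟨T, _, _, _, _, _, hsplit⟩ := Algebra.IsFiniteSplit.exists_tensorProduct_of_etale hrank
  obtain ⟨m, ⟨e⟩⟩ := hsplit.nonempty_algEquiv_fun
  algebraize [(algebraMap R' T).comp (algebraMap R R')]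
  haveI : Algebra.Etale R T := Algebra.Etale.comp R R' T
  let inA : A →ₐ[R] T ⊗[R'] A' :=
    ((Algebra.TensorProduct.includeRight : A' →ₐ[R'] T ⊗[R'] A').restrictScalars R).comp
      Algebra.TensorProduct.includeRight
  let σ : Fin m → A →ₐ[R] T := fun i =>
    (((Pi.evalAlgHom T (fun _ : Fin m => T) i).comp e.toAlgHom).restrictScalars R).comp inA
  refine ⟨T, inferInstance, inferInstance, m, σ, inferInstance, ?_, ?_⟩
  · obtain ⟨q, hq⟩ : p ∈ Set.range (PrimeSpectrum.comap (algebraMap R R')) := by
      rw [PrimeSpectrum.localization_away_comap_range R' r]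
      exact hpr
    obtain ⟨t, ht⟩ := PrimeSpectrum.comap_surjective_of_faithfullyFlat (B := T) q
    exact ⟨t, by rw [IsScalarTower.algebraMap_eq R R' T, PrimeSpectrum.comap_comp_apply, ht, hq]⟩
  · intro Ω _ _ φ
    letI : Algebra T Ω := φ.toRingHom.toAlgebra
    haveI : IsScalarTower R T Ω := IsScalarTower.of_algebraMap_eq' (φ.comp_algebraMap).symm
    letI : Algebra R' Ω := (φ.toRingHom.comp (algebraMap R' T)).toAlgebra
    haveI : IsScalarTower R' T Ω := IsScalarTower.of_algebraMap_eq' rfl
    haveI : IsScalarTower R R' Ω := IsScalarTower.of_algebraMap_eq fun x => by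
      show algebraMap R Ω x = φ (algebraMap R' T (algebraMap R R' x))
      rw [← IsScalarTower.algebraMap_apply R R' T, φ.commutes]
    have hb := pi_algHom_bijective (T := T) (Ω := Ω) m
    constructor
    · intro i j h
      refine hb.1 ?_
      have key : ((Algebra.ofId T Ω).comp ((Pi.evalAlgHom T (fun _ : Fin m => T) i).comp e.toAlgHom)) =
          (Algebra.ofId T Ω).comp ((Pi.evalAlgHom T (fun _ : Fin m => T) j).comp e.toAlgHom) := by
        refine Algebra.TensorProduct.ext (Algebra.ext_id _ _ _) ?_
        refine Algebra.TensorProduct.ext (Algebra.ext_id _ _ _) ?_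
        exact AlgHom.ext fun a => DFunLike.congr_fun h a
      refine AlgHom.ext fun v => ?_
      obtain ⟨w, rfl⟩ := e.surjective v
      exact DFunLike.congr_fun key w
    · intro ψ
      let ψ' : A' →ₐ[R'] Ω := Algebra.TensorProduct.lift (Algebra.ofId R' Ω) ψ fun _ _ => Commute.all _ _
      let Ψ : T ⊗[R'] A' →ₐ[T] Ω := Algebra.TensorProduct.lift (Algebra.ofId T Ω) ψ' fun _ _ => Commute.all _ _
      obtain ⟨i, hi⟩ := hb.2 (Ψ.comp e.symm.toAlgHom)
      refine ⟨i, AlgHom.ext fun a => ?_⟩
      have := DFunLike.congr_fun hi (e (inA a))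
      refine this.trans ?_
      show Ψ (e.symm (e (inA a))) = ψ a
      rw [AlgEquiv.symm_apply_apply]
      show Ψ (1 ⊗ₜ ((1 : R') ⊗ₜ a)) = ψ a
      simp only [Ψ, ψ', Algebra.TensorProduct.lift_tmul, map_one, one_mul]
      exact (Algebra.TensorProduct.lift_tmul (Algebra.ofId R' Ω) ψ (fun _ _ => Commute.all _ _) (1 : R') a).trans (by simp)

end Groth.Agent.H25Constr
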