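import Groth.Agent.H18Et.StalkSets
import Groth.Agent.H18Et.LC.Wrap
import Groth.Prelude.Def_SixF1

/-! # Inverse image of etale sheaves of modules is exact -/

set_option backward.isDefEq.respectTransparency false

universe u

open CategoryTheory CategoryTheory.Limits AlgebraicGeometry Opposite

namespace Groth.Agent.H25Constr

open Groth.Agent.H18Et

variable (Λ : Type (u + 1)) [CommRing Λ] {X Y : Scheme.{u}}

theorem stalkMod_preservesFiniteLimits {Ω : Type u} [Field Ω] [IsSepClosed Ω]
    (ξ : Spec (CommRingCat.of Ω) ⟶ X) :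
    PreservesFiniteLimits ((Scheme.pointSmallEtale ξ).sheafFiber (A := ModuleCat.{u + 1} Λ)) := by
  have : AB5OfSize.{u, u} (ModuleCat.{u + 1} Λ) := AB5OfSize_of_univLE.{u, u, u + 1, u + 1} _
  infer_instance

theorem pullMod_preservesMonomorphisms (f : X ⟶ Y) : (EtModW.pull Λ f).PreservesMonomorphisms where
  preserves {F G} φ _ := by
    refine Sheaf.mono_of_injective _ fun U s t hst => ?_
    refine sect_ext (A := ModuleCat.{u + 1} Λ) (U := unop U) s t fun Ω _ _ ξ x => ?_
    haveI := stalkMod_preservesFiniteLimits Λ (ξ ≫ f)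
    haveI := stalkMod_preservesFiniteLimits Λ ξ
    let e : EtModW.pull Λ f ⋙ (Scheme.pointSmallEtale ξ).sheafFiber (A := ModuleCat.{u + 1} Λ) ≅
        (Scheme.pointSmallEtale (ξ ≫ f)).sheafFiber :=
      ((Scheme.pointSmallEtale ξ).sheafFiberComapIso (EtCoh.bc f) (EtCoh.coverPreserving_bc f)
        (ModuleCat.{u + 1} Λ)).symm ≪≫
      { hom := (pointCompIso f ξ).inv.sheafFiber
        inv := (pointCompIso f ξ).hom.sheafFiber
        hom_inv_id := by
          rw [← GrothendieckTopology.Point.Hom.sheafFiber_comp, Iso.hom_inv_id,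
            GrothendieckTopology.Point.Hom.sheafFiber_id]
        inv_hom_id := by
          rw [← GrothendieckTopology.Point.Hom.sheafFiber_comp, Iso.inv_hom_id,
            GrothendieckTopology.Point.Hom.sheafFiber_id] }
    have hm : Mono ((Scheme.pointSmallEtale ξ).sheafFiber.map ((EtModW.pull Λ f).map φ)) :=
      ((MorphismProperty.monomorphisms _).arrow_mk_iso_iff (Arrow.isoMk (e.app F) (e.app G)
        (e.hom.naturality φ).symm)).2
        (inferInstanceAs (Mono ((Scheme.pointSmallEtale (ξ ≫ f)).sheafFiber.map φ)))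
    refine (ModuleCat.mono_iff_injective _).1 hm ?_
    rw [germ_naturality, germ_naturality]
    exact congrArg _ hst

theorem pullMod_preservesFiniteLimits (f : X ⟶ Y) : PreservesFiniteLimits (EtModW.pull Λ f) :=
  ((EtModW.pull Λ f).preservesFiniteLimits_tfae.out 0 3 rfl rfl).1 fun S hS => by
    haveI := pullMod_preservesMonomorphisms Λ f
    haveI := hS.mono_f
    haveI : PreservesFiniteColimits (EtModW.pull Λ f) := by
      haveI := (EtSix.pullPushModAdj Λ f).leftAdjoint_preservesColimits
      exact PreservesColimitsOfSize.preservesFiniteColimits.{0, 0} _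
    exact ⟨(((EtModW.pull Λ f).preservesFiniteColimits_tfae.out 3 0 rfl rfl).1 inferInstance S hS).1, inferInstance⟩

end Groth.Agent.H25Constr
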