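import Groth.Prelude.Def_EtOpen
import Groth.Prelude.Def_CohProp
import Groth.Agent.H18Et.LC.Basic
import Groth.Agent.H25Constr.Split

/-! # The sheaf represented by a finite étale scheme is finite locally constant -/

set_option autoImplicit false
set_option backward.isDefEq.respectTransparency false
set_option backward.isDefEq.respectTransparency.types false

universe u

open CategoryTheory CategoryTheory.Limits AlgebraicGeometry Opposite
open Groth.Agent.H18Et

namespace Groth.Agent.H25Constr

variable {S : Scheme.{u}}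

/-- Bijectivity of a family of presheaf sections onto all fibres over `V` passes to the sheafification. -/
theorem isConstOn_sheafify (P : S.Etaleᵒᵖ ⥤ Type (u + 1)) (V : S.Etale) {M : Type (u + 1)}
    (c : M ⟶ P.obj (op V))
    (h : ∀ (Ω : Type u) [Field Ω] [IsSepClosed Ω] (ξ : Spec (CommRingCat.of Ω) ⟶ S)
      (x : (Scheme.pointSmallEtale ξ).fiber.obj V),
      Function.Bijective fun m => (Scheme.pointSmallEtale ξ).toPresheafFiber V x P (c m)) :
    LC.IsConstOn ((presheafToSheaf S.smallEtaleTopology (Type (u + 1))).obj P) V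
      (c ≫ (CategoryTheory.toSheafify S.smallEtaleTopology P).app (op V)) := by
  refine LC.isConstOn_of_bijective fun Ω _ _ ξ x => ?_
  have hη : Function.Bijective ((Scheme.pointSmallEtale ξ).presheafFiber.map
      (CategoryTheory.toSheafify S.smallEtaleTopology P)) := by
    haveI := (S.smallEtaleTopology.W_iff_isLocallyBijective
      (CategoryTheory.toSheafify S.smallEtaleTopology P)).1 (S.smallEtaleTopology.W_toSheafify P)
    obtain ⟨_, _⟩ := this
    exact (Scheme.pointSmallEtale ξ).toPresheafFiber_map_bijective _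
  have e : (fun m => germ ξ ((presheafToSheaf S.smallEtaleTopology (Type (u + 1))).obj P) V x
      ((c ≫ (CategoryTheory.toSheafify S.smallEtaleTopology P).app (op V)) m)) =
      fun m => (Scheme.pointSmallEtale ξ).presheafFiber.map (CategoryTheory.toSheafify S.smallEtaleTopology P)
        ((Scheme.pointSmallEtale ξ).toPresheafFiber V x P (c m)) := by
    funext m
    exact ((Scheme.pointSmallEtale ξ).toPresheafFiber_naturality_apply
      (CategoryTheory.toSheafify S.smallEtaleTopology P) V x (c m)).symm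
  rw [e]
  exact hη.comp (h Ω ξ x)

/-- The constant presheaf is bijective onto its fibres. -/
theorem const_fiber_bijective (V : S.Etale) (M : Type (u + 1)) (Ω : Type u) [Field Ω] [IsSepClosed Ω]
    (ξ : Spec (CommRingCat.of Ω) ⟶ S) (x : (Scheme.pointSmallEtale ξ).fiber.obj V) :
    Function.Bijective fun m : M =>
      (Scheme.pointSmallEtale ξ).toPresheafFiber V x ((Functor.const S.Etaleᵒᵖ).obj M) m := by
  constructor
  · intro m m' h
    obtain ⟨W, g, y, -, hg⟩ := ((Scheme.pointSmallEtale ξ).toPresheafFiber_eq_iff'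
      (P := (Functor.const S.Etaleᵒᵖ).obj M) V x m m').1 h
    exact hg
  · intro p
    obtain ⟨W, y, s, rfl⟩ := (Scheme.pointSmallEtale ξ).toPresheafFiber_jointly_surjective
      (P := (Functor.const S.Etaleᵒᵖ).obj M) p
    refine ⟨s, ?_⟩
    haveI := (Scheme.pointSmallEtale ξ).isCofiltered
    let a : (Scheme.pointSmallEtale ξ).fiber.Elements := ⟨V, x⟩
    let b : (Scheme.pointSmallEtale ξ).fiber.Elements := ⟨W, y⟩
    let z := IsCofiltered.min a b
    have h1 := (Scheme.pointSmallEtale ξ).toPresheafFiber_w_apply (IsCofiltered.minToLeft a b).1 z.2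
      ((Functor.const S.Etaleᵒᵖ).obj M) s
    have h2 := (Scheme.pointSmallEtale ξ).toPresheafFiber_w_apply (IsCofiltered.minToRight a b).1 z.2
      ((Functor.const S.Etaleᵒᵖ).obj M) s
    rw [show (Scheme.pointSmallEtale ξ).fiber.map (IsCofiltered.minToLeft a b).1 z.2 = x from
      (IsCofiltered.minToLeft a b).2] at h1
    rw [show (Scheme.pointSmallEtale ξ).fiber.map (IsCofiltered.minToRight a b).1 z.2 = y from
      (IsCofiltered.minToRight a b).2] at h2
    exact h1.symm.trans h2

/-- Sections of `U` over `V` that are bijective onto the fibres of `U` are bijective onto the stalks. -/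
theorem yoneda_fiber_bijective (U V : S.Etale) {M : Type (u + 1)} (c : M → (V ⟶ U)) (Ω : Type u)
    [Field Ω] [IsSepClosed Ω] (ξ : Spec (CommRingCat.of Ω) ⟶ S) (x : (Scheme.pointSmallEtale ξ).fiber.obj V)
    (h : Function.Bijective fun m => (Scheme.pointSmallEtale ξ).fiber.map (c m) x) :
    Function.Bijective fun m =>
      (Scheme.pointSmallEtale ξ).toPresheafFiber V x (yoneda.obj U ⋙ uliftFunctor.{u + 1, u})
        ⟨c m⟩ := by
  haveI := (Scheme.pointSmallEtale ξ).isCofiltered
  constructor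
  · intro m m' he
    obtain ⟨W, g, y, hy, hg⟩ := ((Scheme.pointSmallEtale ξ).toPresheafFiber_eq_iff'
      (P := yoneda.obj U ⋙ uliftFunctor.{u + 1, u}) V x ⟨c m⟩ ⟨c m'⟩).1 he
    have hg' : g ≫ c m = g ≫ c m' := congrArg ULift.down hg
    refine h.1 ?_
    have h1 := congrArg (fun k => (Scheme.pointSmallEtale ξ).fiber.map k y) hg'
    simp only [Functor.map_comp_apply, hy] at h1
    exact h1
  · intro p
    obtain ⟨W, y, ⟨s⟩, rfl⟩ := (Scheme.pointSmallEtale ξ).toPresheafFiber_jointly_surjective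
      (P := yoneda.obj U ⋙ uliftFunctor.{u + 1, u}) p
    obtain ⟨m, hm⟩ := h.2 ((Scheme.pointSmallEtale ξ).fiber.map s y)
    refine ⟨m, ?_⟩
    let a : (Scheme.pointSmallEtale ξ).fiber.Elements := ⟨V, x⟩
    let b : (Scheme.pointSmallEtale ξ).fiber.Elements := ⟨W, y⟩
    let z := IsCofiltered.min a b
    let t : (Scheme.pointSmallEtale ξ).fiber.Elements := ⟨U, (Scheme.pointSmallEtale ξ).fiber.map s y⟩
    let f₁ : z ⟶ t := IsCofiltered.minToLeft a b ≫ (⟨c m, hm⟩ : a ⟶ t)
    let f₂ : z ⟶ t := IsCofiltered.minToRight a b ≫ (⟨s, rfl⟩ : b ⟶ t)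
    let q := IsCofiltered.eq f₁ f₂
    let e := IsCofiltered.eqHom f₁ f₂
    have heq : e ≫ f₁ = e ≫ f₂ := IsCofiltered.eq_condition f₁ f₂
    let kl : q ⟶ a := e ≫ IsCofiltered.minToLeft a b
    let kr : q ⟶ b := e ≫ IsCofiltered.minToRight a b
    have hk : kl.1 ≫ c m = kr.1 ≫ s := by
      have := congrArg Subtype.val heq
      simpa [f₁, f₂, kl, kr] using this
    have h1 := (Scheme.pointSmallEtale ξ).toPresheafFiber_w_apply kl.1 q.2
      (yoneda.obj U ⋙ uliftFunctor.{u + 1, u}) ⟨c m⟩
    have h2 := (Scheme.pointSmallEtale ξ).toPresheafFiber_w_apply kr.1 q.2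
      (yoneda.obj U ⋙ uliftFunctor.{u + 1, u}) ⟨s⟩
    rw [show (Scheme.pointSmallEtale ξ).fiber.map kl.1 q.2 = x from kl.2] at h1
    rw [show (Scheme.pointSmallEtale ξ).fiber.map kr.1 q.2 = y from kr.2] at h2
    refine h1.symm.trans (Eq.trans ?_ h2)
    exact congrArg (fun k => (Scheme.pointSmallEtale ξ).toPresheafFiber q.1 q.2
      (yoneda.obj U ⋙ uliftFunctor.{u + 1, u}) ⟨k⟩) hk

theorem nonempty_repSh_iso_const (U V : S.Etale) {M : Type (u + 1)} (c : M → (V ⟶ U))
    (h : ∀ (Ω : Type u) [Field Ω] [IsSepClosed Ω] (ξ : Spec (CommRingCat.of Ω) ⟶ S)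
      (x : (Scheme.pointSmallEtale ξ).fiber.obj V),
      Function.Bijective fun m => (Scheme.pointSmallEtale ξ).fiber.map (c m) x) :
    Nonempty ((EtDesc.repSh U).over V ≅ (CohProp.constSh S M).over V) := by
  have h1 := isConstOn_sheafify (yoneda.obj U ⋙ uliftFunctor.{u + 1, u}) V
    (TypeCat.ofHom fun m => ⟨c m⟩)
    (fun Ω _ _ ξ x => yoneda_fiber_bijective U V c Ω ξ x (h Ω ξ x))
  have h2 := isConstOn_sheafify ((Functor.const S.Etaleᵒᵖ).obj M) V (𝟙 M)
    (fun Ω _ _ ξ x => const_fiber_bijective V M Ω ξ x)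
  exact ⟨(LC.constIso h1).symm ≪≫ LC.constIso h2⟩

/-- Etale locally on the base a finite étale scheme is a finite disjoint union of sections. -/
theorem exists_sections (X : Scheme.{u}) (f : X ⟶ S) [Etale f] [IsFinite f] (s : S) :
    ∃ (V : S.Etale) (n : ℕ) (c : Fin n → (V ⟶ Scheme.Etale.mk f)), s ∈ Set.range V.hom.base ∧
      ∀ (Ω : Type u) [Field Ω] [IsSepClosed Ω] (ξ : Spec (CommRingCat.of Ω) ⟶ S)
        (x : (Scheme.pointSmallEtale ξ).fiber.obj V),
        Function.Bijective fun m => (Scheme.pointSmallEtale ξ).fiber.map (c m) x := by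
  obtain ⟨W, hW, hsW, -⟩ := exists_isAffineOpen_mem_and_subset (X := S) (x := s) (U := ⊤) (by trivial)
  let R := Γ(S, W)
  let j : Spec R ⟶ S := hW.fromSpec
  haveI : IsAffine (pullback f j) := isAffine_of_isAffineHom (pullback.snd f j)
  let A := Γ(pullback f j, ⊤)
  let i : Spec A ⟶ X := (pullback f j).isoSpec.inv ≫ pullback.fst f j
  let q : Spec A ⟶ Spec R := (pullback f j).isoSpec.inv ≫ pullback.snd f j
  have hpb : IsPullback i q f j := (IsPullback.of_hasPullback f j).of_iso
    (pullback f j).isoSpec (Iso.refl _) (Iso.refl _) (Iso.refl _) (by simp [i]) (by simp [q]) (by simp) (by simp)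
  let ρ : R ⟶ A := Spec.preimage q
  have hρ : Spec.map ρ = q := Spec.map_preimage q
  algebraize [ρ.hom]
  haveI : Etale q := inferInstance
  haveI : IsFinite q := inferInstance
  haveI : Algebra.Etale R A := by
    have h : Etale (Spec.map ρ) := by rw [hρ]; infer_instance
    exact (HasRingHomProperty.Spec_iff (P := @Etale)).mp h
  haveI : Module.Finite R A := by
    have h : IsFinite (Spec.map ρ) := by rw [hρ]; infer_instance
    exact (IsFinite.SpecMap_iff _).mp h
  obtain ⟨p, hp⟩ : s ∈ Set.range j := by rw [hW.range_fromSpec]; exact hsW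
  obtain ⟨T, _, _, n, σ, hT, hpT, hbij⟩ := exists_split_sections (R := R) (A := A) p
  let τ : R ⟶ CommRingCat.of T := CommRingCat.ofHom (algebraMap R T)
  haveI : Etale (Spec.map τ) := (HasRingHomProperty.Spec_iff (P := @Etale)).mpr (RingHom.etale_algebraMap.mpr hT)
  have hc : ∀ m, (Spec.map (CommRingCat.ofHom (σ m).toRingHom) ≫ i) ≫ f = Spec.map τ ≫ j := by
    intro m
    rw [Category.assoc, hpb.w, ← Category.assoc, ← hρ, ← Spec.map_comp]
    congr 2
    ext a
    exact (σ m).commutes a
  refine ⟨Scheme.Etale.mk (Spec.map τ ≫ j), n,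
    fun m => MorphismProperty.Over.homMk (Spec.map (CommRingCat.ofHom (σ m).toRingHom) ≫ i) (hc m), ?_, ?_⟩
  · obtain ⟨t, ht⟩ := hpT
    exact ⟨t, (congrArg j ht).trans hp⟩
  · intro Ω _ _ ξ x
    obtain ⟨φ, hφ⟩ : ∃ φ : CommRingCat.of T ⟶ CommRingCat.of Ω, Spec.map φ = x.left :=
      ⟨_, Spec.map_preimage _⟩
    have hx : x.left ≫ Spec.map τ ≫ j = ξ := Over.w x
    letI : Algebra R Ω := (φ.hom.comp (algebraMap R T)).toAlgebra
    let φ' : T →ₐ[R] Ω := { φ.hom with commutes' := fun _ => rfl }
    have hb := hbij Ω φ'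
    constructor
    · intro m m' he
      refine hb.1 (AlgHom.ext fun a => ?_)
      have h1 : x.left ≫ Spec.map (CommRingCat.ofHom (σ m).toRingHom) ≫ i =
          x.left ≫ Spec.map (CommRingCat.ofHom (σ m').toRingHom) ≫ i :=
        congrArg CommaMorphism.left he
      have h2 : x.left ≫ Spec.map (CommRingCat.ofHom (σ m).toRingHom) =
          x.left ≫ Spec.map (CommRingCat.ofHom (σ m').toRingHom) := by
        refine hpb.hom_ext (by simpa only [Category.assoc] using h1) ?_
        simp only [Category.assoc, ← hρ, ← Spec.map_comp]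
        congr 2
        ext b
        exact ((σ m).commutes b).trans ((σ m').commutes b).symm
      rw [← hφ, ← Spec.map_comp, ← Spec.map_comp] at h2
      exact DFunLike.congr_fun (congrArg CommRingCat.Hom.hom (Spec.map_injective h2)) a
    · intro y
      have hy : y.left ≫ f = (Spec.map φ ≫ Spec.map τ) ≫ j := by
        rw [Category.assoc, hφ, hx]
        exact Over.w y
      let ψ : A ⟶ CommRingCat.of Ω := Spec.preimage (hpb.lift y.left (Spec.map φ ≫ Spec.map τ) hy)
      have hψ : Spec.map ψ = hpb.lift y.left (Spec.map φ ≫ Spec.map τ) hy := Spec.map_preimage _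
      have hψR : ρ ≫ ψ = τ ≫ φ := by
        apply Spec.map_injective
        rw [Spec.map_comp, Spec.map_comp, hψ, hρ, hpb.lift_snd]
      let ψ' : A →ₐ[R] Ω := { ψ.hom with commutes' := fun r => DFunLike.congr_fun (congrArg CommRingCat.Hom.hom hψR) r }
      obtain ⟨m, hm⟩ := hb.2 ψ'
      refine ⟨m, Over.OverMorphism.ext ?_⟩
      show x.left ≫ Spec.map (CommRingCat.ofHom (σ m).toRingHom) ≫ i = y.left
      have h2 : CommRingCat.ofHom (σ m).toRingHom ≫ φ = ψ := by
        ext a
        exact DFunLike.congr_fun hm a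
      rw [← hφ, ← Category.assoc, ← Spec.map_comp, h2, hψ, hpb.lift_fst]

theorem isFinLocConstSet_repSh (X : Scheme.{u}) (f : X ⟶ S) [Etale f] [IsFinite f] :
    CohProp.IsFinLocConstSet (EtDesc.repSh (Scheme.Etale.mk f)) := by
  choose V n c hs hb using exists_sections X f
  refine ⟨S, fun s => V s, fun s => ⟨s, hs s⟩, fun s => ⟨ULift.{u + 1} (Fin (n s)), inferInstance, ?_⟩⟩
  refine nonempty_repSh_iso_const _ _ (fun m => c s m.down) fun Ω _ _ ξ x => ?_
  exact (hb s Ω ξ x).comp Equiv.ulift.bijective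

end Groth.Agent.H25Constr
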