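import Groth.Agent.H18Et.Stalk
import Groth.Agent.H18Et.Germ
import Groth.Agent.H18Et.LC.Basic
import Groth.Agent.H9Gal.QfhBasics
import Groth.Prelude.Def_EtCore
import Groth.Prelude.Def_CohProp
import Groth.Agent.H25Constr.FinEt
import Mathlib

/-!
# A finite constant sheaf of sets is represented by a finite disjoint union of copies of the base
-/

set_option autoImplicit false
set_option linter.style.haveILetI false
set_option backward.isDefEq.respectTransparency false
set_option backward.isDefEq.respectTransparency.types false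

universe u

open CategoryTheory Limits AlgebraicGeometry Opposite

noncomputable section

namespace Groth.Agent.H25Constr.LccSet

open H18Et

variable {X : Scheme.{u}} {F : EtDesc.Sh X}

theorem map_map {T V W : X.Etale} (g : V ⟶ T) (g' : W ⟶ V) (s : EtDesc.sect F T) :
    F.obj.map g'.op (F.obj.map g.op s) = F.obj.map (g' ≫ g).op s := by
  rw [op_comp, F.obj.map_comp]
  rfl

/-- Sections equal locally are equal. -/
theorem sect_ext_local {T : X.Etale} (s t : EtDesc.sect F T)
    (h : ∀ x : T.left, ∃ (V : X.Etale) (g : V ⟶ T) (v : V.left),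
      g.left v = x ∧ F.obj.map g.op s = F.obj.map g.op t) : s = t := by
  have hsh := (isSheaf_iff_isSheaf_of_type _ _).1
    F.property
  let R : Sieve T :=
    { arrows := fun V g => F.obj.map g.op s = F.obj.map g.op t
      downward_closed := fun {V W g} hg g' => by
        change F.obj.map (g' ≫ g).op s = F.obj.map (g' ≫ g).op t
        rw [← map_map, ← map_map, hg] }
  refine (hsh R (mem_topology_of_forall_point R fun x => ?_)).isSeparatedFor.ext fun V g hg => hg
  obtain ⟨V, g, v, hv, e⟩ := h x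
  exact ⟨V, g, v, e, hv⟩

/-- The fibre product of two etale schemes over a third. -/
def prodObj {T V V' : X.Etale} (g : V ⟶ T) (g' : V' ⟶ T) : X.Etale :=
  haveI : Etale V.hom := V.prop
  haveI : Etale g.left := inferInstance
  haveI : Etale g'.left := inferInstance
  MorphismProperty.Over.mk ⊤ (pullback.fst g.left g'.left ≫ V.hom) (inferInstanceAs (Etale _))

def prodFst {T V V' : X.Etale} (g : V ⟶ T) (g' : V' ⟶ T) : prodObj g g' ⟶ V :=
  MorphismProperty.Over.homMk (pullback.fst g.left g'.left) rfl trivial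

def prodSnd {T V V' : X.Etale} (g : V ⟶ T) (g' : V' ⟶ T) : prodObj g g' ⟶ V' :=
  MorphismProperty.Over.homMk (pullback.snd g.left g'.left)
    ((congrArg (pullback.snd g.left g'.left ≫ ·) (Over.w g'.hom).symm).trans
      (((pullback.condition_assoc T.hom).symm).trans
        (congrArg (pullback.fst g.left g'.left ≫ ·) (Over.w g.hom)))) trivial

theorem prod_condition {T V V' : X.Etale} (g : V ⟶ T) (g' : V' ⟶ T) :
    prodFst g g' ≫ g = prodSnd g g' ≫ g' :=
  MorphismProperty.Over.Hom.ext pullback.condition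

variable {U : X.Etale} {M : Type (u + 1)} {c : M ⟶ F.obj.obj (op U)}

/-- Points where a section over `T ⟶ U` is the constant `m`. -/
def locus (c : M ⟶ F.obj.obj (op U)) {T : X.Etale} (g : T ⟶ U) (t : EtDesc.sect F T) (m : M) : Set T.left :=
  {x | ∃ (V : X.Etale) (k : V ⟶ T), x ∈ Set.range k.left.base ∧
    F.obj.map k.op t = F.obj.map (k ≫ g).op (c m)}

theorem isOpen_locus {T : X.Etale} (g : T ⟶ U) (t : EtDesc.sect F T) (m : M) :
    IsOpen (locus c g t m) := by
  refine isOpen_iff_forall_mem_open.2 fun x ⟨V, k, hx, e⟩ => ⟨_, fun y hy => ⟨V, k, hy, e⟩, ?_, hx⟩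
  exact k.left.isOpenMap.isOpen_range

theorem exists_mem_locus (h : LC.IsConstOn F U c) {T : X.Etale} (g : T ⟶ U) (t : EtDesc.sect F T) (x : T.left) :
    ∃ m, x ∈ locus c g t m := by
  obtain ⟨Ω, _, _, ξ, y, hy⟩ := LC.exists_point_over x
  obtain ⟨m, hm⟩ := (h.bijective ξ ((Scheme.pointSmallEtale ξ).fiber.map g y)).2 (germ ξ F T y t)
  have hm' : germ ξ F T y (F.obj.map g.op (c m)) = germ ξ F T y t :=
    ((Scheme.pointSmallEtale ξ).toPresheafFiber_w_apply g y F.obj _).trans hm
  obtain ⟨V, k, z, hz, e⟩ := (germ_eq_iff ξ F T y _ _).1 hm'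
  exact ⟨m, V, k, ⟨ptOf z, by rw [ptOf_map, hz, hy]⟩, by rw [← map_map]; exact e.symm⟩

theorem eq_of_eq_on_point (h : LC.IsConstOn F U c) {W : X.Etale} (w : W.left) (g : W ⟶ U) {m m' : M}
    (e : F.obj.map g.op (c m) = F.obj.map g.op (c m')) : m = m' := by
  obtain ⟨Ω, _, _, ξ, y, -⟩ := LC.exists_point_over w
  have hw := fun n => (Scheme.pointSmallEtale ξ).toPresheafFiber_w_apply g y F.obj (c n)
  exact (h.bijective ξ _).1 ((hw m).symm.trans ((congrArg (germ ξ F W y) e).trans (hw m')))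

theorem locus_unique (h : LC.IsConstOn F U c) {T : X.Etale} (g : T ⟶ U) (t : EtDesc.sect F T) {x : T.left}
    {m m' : M} (hm : x ∈ locus c g t m) (hm' : x ∈ locus c g t m') : m = m' := by
  obtain ⟨V, k, ⟨v, hv⟩, e⟩ := hm
  obtain ⟨V', k', ⟨v', hv'⟩, e'⟩ := hm'
  obtain ⟨w, -, -⟩ := Scheme.Pullback.exists_preimage_pullback v v' (hv.trans hv'.symm)
  refine eq_of_eq_on_point h (W := prodObj k k') w (prodFst k k' ≫ k ≫ g) ?_
  rw [← map_map, ← e]
  conv_rhs => rw [← Category.assoc, prod_condition, Category.assoc, ← map_map, ← e']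
  rw [map_map, map_map, prod_condition]

/-- The open piece of an etale scheme. -/
def openObj (T : X.Etale) (O : T.left.Opens) : X.Etale :=
  haveI : Etale T.hom := T.prop
  MorphismProperty.Over.mk ⊤ (O.ι ≫ T.hom) (inferInstanceAs (Etale _))

def openHom (T : X.Etale) (O : T.left.Opens) : openObj T O ⟶ T :=
  MorphismProperty.Over.homMk O.ι rfl trivial

theorem res_eq_of_subset_locus (h : LC.IsConstOn F U c) {T : X.Etale} (g : T ⟶ U) (t : EtDesc.sect F T) (m : M)
    (O : T.left.Opens) (hO : (O : Set T.left) ⊆ locus c g t m) :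
    F.obj.map (openHom T O).op t = F.obj.map (openHom T O ≫ g).op (c m) := by
  refine sect_ext_local _ _ fun x => ?_
  obtain ⟨V, k, ⟨v, hv⟩, e⟩ := hO x.2
  obtain ⟨w, hw, -⟩ := Scheme.Pullback.exists_preimage_pullback (f := (openHom T O).left) (g := k.left) x v hv.symm
  refine ⟨prodObj (openHom T O) k, prodFst _ _, w, hw, ?_⟩
  rw [map_map, map_map, ← Category.assoc, prod_condition, Category.assoc, ← map_map, ← map_map, e, map_map]

variable (U) (M₀ : Type u)

/-- The disjoint union of copies of `U`. -/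
def copies [Finite M₀] : X.Etale :=
  haveI : Etale U.hom := U.prop
  MorphismProperty.Over.mk ⊤ (Sigma.desc fun _ : M₀ => U.hom)
    (IsZariskiLocalAtSource.sigmaDesc (P := @Etale) fun _ => ‹Etale U.hom›)

def inj [Finite M₀] (a : M₀) : U ⟶ copies U M₀ :=
  MorphismProperty.Over.homMk (Sigma.ι (fun _ : M₀ => U.left) a) (Sigma.ι_desc _ _) trivial

def proj [Finite M₀] : copies U M₀ ⟶ U :=
  MorphismProperty.Over.homMk (Sigma.desc fun _ : M₀ => 𝟙 U.left)
    (Sigma.hom_ext _ _ fun a => by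
      change Sigma.ι _ a ≫ Sigma.desc _ ≫ U.hom = Sigma.ι _ a ≫ Sigma.desc _
      refine (Sigma.ι_desc_assoc _ _ _).trans ?_
      exact (Category.id_comp U.hom).trans (Sigma.ι_desc (fun _ : M₀ => U.hom) a).symm) trivial

theorem inj_proj [Finite M₀] (a : M₀) : inj U M₀ a ≫ proj U M₀ = 𝟙 U :=
  MorphismProperty.Over.Hom.ext (Sigma.ι_desc _ _)

theorem isFinite_proj [Finite M₀] : IsFinite (proj U M₀).left :=
  H9Gal.QfhBasics.isFinite_sigmaDesc M₀ (fun _ => U.left) _ fun _ => inferInstance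

theorem exists_inj [Finite M₀] (x : (copies U M₀).left) : ∃ a y, (inj U M₀ a).left y = x := by
  obtain ⟨a, y, hy⟩ := (sigmaOpenCover (fun _ : M₀ => U.left)).exists_eq x
  exact ⟨a, y, hy⟩

theorem inj_disjoint [Finite M₀] {a b : M₀} {y y' : U.left}
    (e : (inj U M₀ a).left y = (inj U M₀ b).left y') : a = b := by
  obtain ⟨rfl⟩ := (sigmaι_eq_iff (fun _ : M₀ => U.left) a b y y').1 e
  rfl

/-- A finite constant sheaf is locally represented by a finite etale scheme. -/
theorem exists_rep [Finite M₀] (e₀ : M₀ ≃ M) (h : LC.IsConstOn F U c) :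
    ∃ (U' : X.Etale) (p : U' ⟶ U) (_ : IsFinite p.left) (s : EtDesc.sect F U'),
      ∀ (T : X.Etale) (g : T ⟶ U) (t : EtDesc.sect F T),
        ∃! k : T ⟶ U', k ≫ p = g ∧ F.obj.map k.op s = t := by
  have hsh := (isSheaf_iff_isSheaf_of_type _ _).1
    F.property
  let R : Presieve (copies U M₀) := Presieve.ofArrows (fun _ : M₀ => U) (inj U M₀)
  have hR : Sieve.generate R ∈ X.smallEtaleTopology _ := mem_topology_of_forall_point _ fun x => by
    obtain ⟨a, y, hy⟩ := exists_inj U M₀ x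
    exact ⟨U, inj U M₀ a, y, ⟨_, 𝟙 _, _, Presieve.ofArrows.mk a, Category.id_comp _⟩, hy⟩
  obtain ⟨s, hs, -⟩ := (Presieve.isSheafFor_arrows_iff F.obj _).1
    ((Presieve.isSheafFor_iff_generate R).2 (hsh _ hR)) (fun a => c (e₀ a)) (fun a b Z p q e => by
      refine sect_ext_local (T := Z) _ _ fun z => ?_
      have hz : (inj U M₀ a).left (p.left z) = (inj U M₀ b).left (q.left z) :=
        congrArg (fun k : Z ⟶ copies U M₀ => k.left z) e
      obtain rfl := inj_disjoint U M₀ hz
      haveI : Mono (inj U M₀ a).left := inferInstanceAs (Mono (Sigma.ι (fun _ : M₀ => U.left) a))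
      have : p = q := MorphismProperty.Over.Hom.ext ((cancel_mono (inj U M₀ a).left).1 (congrArg (fun k => k.left) e))
      subst this
      exact ⟨Z, 𝟙 Z, z, rfl, rfl⟩)
  have hs' : ∀ a, F.obj.map (inj U M₀ a).op s = c (e₀ a) := hs
  refine ⟨copies U M₀, proj U M₀, isFinite_proj U M₀, s, fun T g t => ?_⟩
  let O : M₀ → T.left.Opens := fun a => ⟨locus c g t (e₀ a), isOpen_locus g t _⟩
  have hO : TopologicalSpace.IsOpenCover O := by
    refine eq_top_iff.2 fun x _ => ?_
    obtain ⟨m, hm⟩ := exists_mem_locus h g t x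
    exact TopologicalSpace.Opens.mem_iSup.2 ⟨e₀.symm m, by change x ∈ locus c g t _; rwa [e₀.apply_symm_apply]⟩
  let 𝒰 := T.left.openCoverOfIsOpenCover O hO
  let piece : ∀ a : M₀, (O a).toScheme ⟶ (copies U M₀).left := fun a => (O a).ι ≫ (g ≫ inj U M₀ a).left
  let kl : T.left ⟶ (copies U M₀).left := 𝒰.glueMorphisms piece fun a b => by
    let P := pullback (𝒰.f a) (𝒰.f b)
    rcases isEmpty_or_nonempty P with hP | ⟨⟨z⟩⟩
    · exact (isInitialOfIsEmpty (X := P)).hom_ext _ _
    · have hz : (O a).ι (pullback.fst (𝒰.f a) (𝒰.f b) z) = (O b).ι (pullback.snd (𝒰.f a) (𝒰.f b) z) :=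
        congrArg (fun k : P ⟶ T.left => k z) pullback.condition
      have : a = b := e₀.injective (locus_unique h g t (x := (O a).ι (pullback.fst (𝒰.f a) (𝒰.f b) z))
        (pullback.fst (𝒰.f a) (𝒰.f b) z).2 (by rw [hz]; exact (pullback.snd (𝒰.f a) (𝒰.f b) z).2))
      subst this
      change pullback.fst _ _ ≫ (O a).ι ≫ _ = pullback.snd _ _ ≫ (O a).ι ≫ _
      exact pullback.condition_assoc _
  have hkl : ∀ a, (O a).ι ≫ kl = piece a := fun a => 𝒰.ι_glueMorphisms _ _ a
  let k : T ⟶ copies U M₀ := MorphismProperty.Over.homMk kl (𝒰.hom_ext _ _ fun a => by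
    change (O a).ι ≫ kl ≫ _ = (O a).ι ≫ T.hom
    rw [reassoc_of% hkl a]
    exact congrArg ((O a).ι ≫ ·) (MorphismProperty.Over.w (g ≫ inj U M₀ a))) trivial
  have hk : ∀ a, openHom T (O a) ≫ k = openHom T (O a) ≫ g ≫ inj U M₀ a := fun a =>
    MorphismProperty.Over.Hom.ext (hkl a)
  refine ⟨k, ⟨MorphismProperty.Over.Hom.ext (𝒰.hom_ext _ _ fun a => ?_), sect_ext_local _ _ fun x => ?_⟩, ?_⟩
  · change (O a).ι ≫ kl ≫ _ = (O a).ι ≫ g.left
    rw [reassoc_of% hkl a]
    refine (congrArg (fun l : U ⟶ U => (O a).ι ≫ g.left ≫ l.left) (inj_proj U M₀ a)).trans ?_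
    exact congrArg ((O a).ι ≫ ·) (Category.comp_id g.left)
  · obtain ⟨a, ha⟩ := TopologicalSpace.Opens.mem_iSup.1 (hO.symm ▸ trivial : x ∈ iSup O)
    refine ⟨_, openHom T (O a), ⟨x, ha⟩, rfl, ?_⟩
    rw [map_map, hk, ← Category.assoc, ← map_map, hs', res_eq_of_subset_locus h g t (e₀ a) (O a) subset_rfl]
  · rintro k' ⟨hk'p, hk's⟩
    refine MorphismProperty.Over.Hom.ext (𝒰.hom_ext _ _ fun a => ?_)
    change (O a).ι ≫ k'.left = (O a).ι ≫ kl
    rw [hkl]
    haveI : ∀ b, IsOpenImmersion (inj U M₀ b).left := fun b =>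
      inferInstanceAs (IsOpenImmersion (Sigma.ι (fun _ : M₀ => U.left) b))
    let Q : M₀ → (O a).toScheme.Opens := fun b => ((O a).ι ≫ k'.left) ⁻¹ᵁ (inj U M₀ b).left.opensRange
    have hQ : ∀ z, ∃ b, z ∈ Q b := fun z => by
      obtain ⟨b, y, hy⟩ := exists_inj U M₀ (((O a).ι ≫ k'.left) z)
      exact ⟨b, y, hy⟩
    refine ((O a).toScheme.openCoverOfIsOpenCover Q (eq_top_iff.2 fun z _ => TopologicalSpace.Opens.mem_iSup.2 (hQ z))).hom_ext
      _ _ fun b => ?_
    change (Q b).ι ≫ (O a).ι ≫ k'.left = (Q b).ι ≫ piece a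
    rcases isEmpty_or_nonempty (Q b).toScheme with hP | ⟨⟨z⟩⟩
    · exact (isInitialOfIsEmpty (X := (Q b).toScheme)).hom_ext _ _
    let l := IsOpenImmersion.lift (inj U M₀ b).left ((Q b).ι ≫ (O a).ι ≫ k'.left) (by
      rintro _ ⟨z, rfl⟩
      obtain ⟨y, hy⟩ := z.2
      exact ⟨y, hy⟩)
    have hl : l ≫ (inj U M₀ b).left = (Q b).ι ≫ (O a).ι ≫ k'.left := IsOpenImmersion.lift_fac _ _ _
    let W := openObj (openObj T (O a)) (Q b)
    let r : W ⟶ T := openHom (openObj T (O a)) (Q b) ≫ openHom T (O a)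
    have hlg : l = (Q b).ι ≫ (O a).ι ≫ g.left := by
      have := congrArg (fun m => m ≫ (proj U M₀).left) hl
      simp only [Category.assoc] at this
      rw [show (inj U M₀ b).left ≫ (proj U M₀).left = 𝟙 U.left from congrArg (fun m : U ⟶ U => m.left) (inj_proj U M₀ b),
        Category.comp_id] at this
      rw [this, show k'.left ≫ (proj U M₀).left = g.left from congrArg (fun m : T ⟶ U => m.left) hk'p]
    have hr : r ≫ k' = (r ≫ g) ≫ inj U M₀ b := MorphismProperty.Over.Hom.ext (by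
      change ((Q b).ι ≫ (O a).ι) ≫ k'.left = (((Q b).ι ≫ (O a).ι) ≫ g.left) ≫ (inj U M₀ b).left
      rw [Category.assoc, ← hl, hlg]
      simp only [Category.assoc])
    have hba : b = a := by
      refine e₀.injective (eq_of_eq_on_point h (W := W) z (r ≫ g) ?_)
      have h1 := congrArg (F.obj.map r.op) hk's
      rw [map_map, hr, ← map_map, hs'] at h1
      rw [h1, Category.assoc, ← map_map,
        res_eq_of_subset_locus h g t (e₀ a) (O a) subset_rfl, map_map]
    rw [← hl, hlg, hba]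
    simp only [Category.assoc]
    rfl

end Groth.Agent.H25Constr.LccSet
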