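import Groth.Agent.H25Constr.LccSetLocal
import Groth.Agent.H18Et.LC.Apply
import Groth.Agent.H13Desc.Eff.IndQAFam
import Groth.Agent.H7Flat.IndQuasiAffine
import Groth.Agent.H13AlgSp.LocalAtSource
import Groth.Agent.H13Desc.Fpqc
import Groth.Agent.H13Desc.DescFam
import Groth.Agent.H18Descent.Basic
import Groth.Agent.H12AlgSp.SourceDescent
import Groth.Agent.H18Torsor.Glue
import Mathlib

/-!
# Finite locally constant sheaves of sets are represented by finite etale schemes
-/

set_option autoImplicit false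
set_option linter.style.haveILetI false
set_option backward.isDefEq.respectTransparency false
set_option backward.isDefEq.respectTransparency.types false

universe u

open CategoryTheory Limits AlgebraicGeometry Opposite Desc

noncomputable section

namespace Groth.Agent.H25Constr.LccSet

variable {X : Scheme.{u}}

/-- `A ×_X B` as an etale scheme. -/
def mulObj (A B : X.Etale) : X.Etale :=
  haveI : Etale A.hom := A.prop
  haveI : Etale B.hom := B.prop
  MorphismProperty.Over.mk ⊤ (pullback.fst A.hom B.hom ≫ A.hom) (inferInstanceAs (Etale _))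

def mulFst (A B : X.Etale) : mulObj A B ⟶ A :=
  MorphismProperty.Over.homMk (pullback.fst A.hom B.hom) rfl trivial

def mulSnd (A B : X.Etale) : mulObj A B ⟶ B :=
  MorphismProperty.Over.homMk (pullback.snd A.hom B.hom) pullback.condition.symm trivial

variable (F : EtDesc.Sh X) {ι : Type u} (U : ι → X.Etale) (U' : ι → X.Etale) (p : ∀ i, U' i ⟶ U i)
  (s : ∀ i, EtDesc.sect F (U' i))

/-- `p i : U' i ⟶ U i` with the section `s i` represents `F` over `U i`. -/
def Reps : Prop :=
  ∀ (i : ι) (T : X.Etale) (g : T ⟶ U i) (t : EtDesc.sect F T),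
    ∃! k : T ⟶ U' i, k ≫ p i = g ∧ F.obj.map k.op (s i) = t

variable {F U U' p s} (hr : Reps F U U' p s)

include hr in
theorem rep_ext {i : ι} {T : X.Etale} {a b : T ⟶ U' i} (h₁ : a ≫ p i = b ≫ p i)
    (h₂ : F.obj.map a.op (s i) = F.obj.map b.op (s i)) : a = b := by
  obtain ⟨k, -, hu⟩ := hr i T (a ≫ p i) (F.obj.map a.op (s i))
  rw [hu a ⟨rfl, rfl⟩, hu b ⟨h₁.symm, h₂.symm⟩]

/-- The transition map. -/
def trans (i j : ι) : mulObj (U' i) (U j) ⟶ U' j :=
  (hr j _ (mulSnd (U' i) (U j)) (F.obj.map (mulFst (U' i) (U j)).op (s i))).exists.choose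

theorem trans_spec (i j : ι) : trans hr i j ≫ p j = mulSnd (U' i) (U j) ∧
    F.obj.map (trans hr i j).op (s j) = F.obj.map (mulFst (U' i) (U j)).op (s i) :=
  (hr j _ (mulSnd (U' i) (U j)) (F.obj.map (mulFst (U' i) (U j)).op (s i))).exists.choose_spec

theorem trans_left (i j : ι) : (trans hr i j).left ≫ (p j).left = pullback.snd (U' i).hom (U j).hom :=
  congrArg (fun k : mulObj (U' i) (U j) ⟶ U j => k.left) (trans_spec hr i j).1

theorem over_w {i : ι} {T : Scheme.{u}} {j : ι} {x₀ : T ⟶ (U i).left} {x₁ : T ⟶ (U j).left}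
    (h : x₀ ≫ (U i).hom = x₁ ≫ (U j).hom) (v : Lifts (Over.mk (p i).left) x₀) :
    v.1 ≫ (U' i).hom = x₁ ≫ (U j).hom := by
  have e1 : (p i).left ≫ (U i).hom = (U' i).hom := MorphismProperty.Over.w (p i)
  have e2 : v.1 ≫ (p i).left = x₀ := v.2
  exact ((congrArg (v.1 ≫ ·) e1).symm.trans
    ((Category.assoc _ _ _).symm.trans (congrArg (· ≫ (U i).hom) e2))).trans h

/-- Transport of points. -/
def phiFun ⦃T : Scheme.{u}⦄ ⦃i j : ι⦄ (x₀ : T ⟶ (U i).left) (x₁ : T ⟶ (U j).left)
    (h : x₀ ≫ (U i).hom = x₁ ≫ (U j).hom) (v : Lifts (Over.mk (p i).left) x₀) : Lifts (Over.mk (p j).left) x₁ :=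
  ⟨pullback.lift v.1 x₁ (over_w h v) ≫ (trans hr i j).left, by
    change (pullback.lift v.1 x₁ (over_w h v) ≫ (trans hr i j).left) ≫ (p j).left = x₁
    rw [Category.assoc, trans_left]
    exact pullback.lift_snd _ _ _⟩

theorem phiFun_self {T : Scheme.{u}} {i : ι} (x : T ⟶ (U i).left) (v : Lifts (Over.mk (p i).left) x) :
    phiFun hr x x rfl v = v := by
  let a : U' i ⟶ mulObj (U' i) (U i) := MorphismProperty.Over.homMk
    (pullback.lift (𝟙 _) (p i).left (by rw [Category.id_comp]; exact (MorphismProperty.Over.w (p i)).symm))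
    ((pullback.lift_fst_assoc _ _ _ _).trans (Category.id_comp _)) trivial
  have h1 : a ≫ mulFst (U' i) (U i) = 𝟙 _ := MorphismProperty.Over.Hom.ext (pullback.lift_fst _ _ _)
  have h2 : a ≫ mulSnd (U' i) (U i) = p i := MorphismProperty.Over.Hom.ext (pullback.lift_snd _ _ _)
  have key : a ≫ trans hr i i = 𝟙 _ := rep_ext hr
    (by rw [Category.assoc, (trans_spec hr i i).1, h2, Category.id_comp])
    (by rw [← map_map, (trans_spec hr i i).2, map_map, h1])
  refine Subtype.ext ?_
  change pullback.lift v.1 x _ ≫ (trans hr i i).left = v.1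
  have e : pullback.lift v.1 x (over_w rfl v) = v.1 ≫ a.left := by
    apply pullback.hom_ext
    · rw [pullback.lift_fst, Category.assoc]
      exact (Category.comp_id _).symm.trans (congrArg (v.1 ≫ ·) (congrArg (fun k : U' i ⟶ U' i => k.left) h1).symm)
    · rw [pullback.lift_snd, Category.assoc]
      exact v.2.symm.trans (congrArg (v.1 ≫ ·) (congrArg (fun k : U' i ⟶ U i => k.left) h2).symm)
  rw [e, Category.assoc]
  exact (congrArg (v.1 ≫ ·) (congrArg (fun k : U' i ⟶ U' i => k.left) key)).trans (Category.comp_id _)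

theorem phiFun_comp {T : Scheme.{u}} {i j k : ι} (x₀ : T ⟶ (U i).left) (x₁ : T ⟶ (U j).left)
    (x₂ : T ⟶ (U k).left) (h₀₁ : x₀ ≫ (U i).hom = x₁ ≫ (U j).hom) (h₁₂ : x₁ ≫ (U j).hom = x₂ ≫ (U k).hom)
    (v : Lifts (Over.mk (p i).left) x₀) :
    phiFun hr x₁ x₂ h₁₂ (phiFun hr x₀ x₁ h₀₁ v) = phiFun hr x₀ x₂ (h₀₁.trans h₁₂) v := by
  let W := mulObj (mulObj (U' i) (U j)) (U k)
  let q₀ : W ⟶ mulObj (U' i) (U j) := mulFst _ _
  let q₂ : W ⟶ U k := mulSnd _ _
  have hq : q₀.left ≫ (mulObj (U' i) (U j)).hom = q₂.left ≫ (U k).hom :=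
    (MorphismProperty.Over.w q₀).trans (MorphismProperty.Over.w q₂).symm
  let a : W ⟶ mulObj (U' j) (U k) := MorphismProperty.Over.homMk
    (pullback.lift (q₀ ≫ trans hr i j).left q₂.left
      ((MorphismProperty.Over.w (q₀ ≫ trans hr i j)).trans (MorphismProperty.Over.w q₂).symm))
    ((pullback.lift_fst_assoc _ _ _ _).trans (MorphismProperty.Over.w (q₀ ≫ trans hr i j))) trivial
  let b : W ⟶ mulObj (U' i) (U k) := MorphismProperty.Over.homMk
    (pullback.lift (q₀ ≫ mulFst (U' i) (U j)).left q₂.left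
      ((MorphismProperty.Over.w (q₀ ≫ mulFst _ _)).trans (MorphismProperty.Over.w q₂).symm))
    ((pullback.lift_fst_assoc _ _ _ _).trans (MorphismProperty.Over.w (q₀ ≫ mulFst _ _))) trivial
  have a1 : a ≫ mulFst _ _ = q₀ ≫ trans hr i j := MorphismProperty.Over.Hom.ext (pullback.lift_fst _ _ _)
  have a2 : a ≫ mulSnd _ _ = q₂ := MorphismProperty.Over.Hom.ext (pullback.lift_snd _ _ _)
  have b1 : b ≫ mulFst _ _ = q₀ ≫ mulFst _ _ := MorphismProperty.Over.Hom.ext (pullback.lift_fst _ _ _)
  have b2 : b ≫ mulSnd _ _ = q₂ := MorphismProperty.Over.Hom.ext (pullback.lift_snd _ _ _)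
  have key : a ≫ trans hr j k = b ≫ trans hr i k := rep_ext hr
    (by rw [Category.assoc, Category.assoc, (trans_spec hr j k).1, (trans_spec hr i k).1, a2, b2])
    (by rw [← map_map, ← map_map, (trans_spec hr j k).2, (trans_spec hr i k).2, map_map, map_map, a1, b1,
          ← map_map, ← map_map, (trans_spec hr i j).2])
  let m : T ⟶ W.left := pullback.lift (pullback.lift v.1 x₁ (over_w h₀₁ v)) x₂ (by
    change pullback.lift v.1 x₁ _ ≫ pullback.fst _ _ ≫ (U' i).hom = x₂ ≫ _
    rw [pullback.lift_fst_assoc, over_w h₀₁ v, h₁₂])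
  have hm0 : m ≫ q₀.left = pullback.lift v.1 x₁ (over_w h₀₁ v) := pullback.lift_fst _ _ _
  have hm2 : m ≫ q₂.left = x₂ := pullback.lift_snd _ _ _
  refine Subtype.ext ?_
  change pullback.lift (pullback.lift v.1 x₁ (over_w h₀₁ v) ≫ (trans hr i j).left) x₂ _ ≫ (trans hr j k).left =
    pullback.lift v.1 x₂ _ ≫ (trans hr i k).left
  have ea : pullback.lift (pullback.lift v.1 x₁ (over_w h₀₁ v) ≫ (trans hr i j).left) x₂
      (over_w h₁₂ (phiFun hr x₀ x₁ h₀₁ v)) = m ≫ a.left := by
    apply pullback.hom_ext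
    · rw [pullback.lift_fst, Category.assoc]
      refine Eq.trans ?_ (congrArg (m ≫ ·) (congrArg (fun l : W ⟶ U' j => l.left) a1)).symm
      exact (congrArg (· ≫ (trans hr i j).left) hm0.symm).trans (Category.assoc _ _ _)
    · rw [pullback.lift_snd, Category.assoc]
      exact hm2.symm.trans (congrArg (m ≫ ·) (congrArg (fun l : W ⟶ U k => l.left) a2).symm)
  have eb : pullback.lift v.1 x₂ (over_w (j := k) (x₁ := x₂) (h₀₁.trans h₁₂) v) = m ≫ b.left := by
    apply pullback.hom_ext
    · rw [pullback.lift_fst, Category.assoc]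
      refine Eq.trans ?_ (congrArg (m ≫ ·) (congrArg (fun l : W ⟶ U' i => l.left) b1)).symm
      refine Eq.trans ?_ ((congrArg (· ≫ (mulFst (U' i) (U j)).left) hm0.symm).trans (Category.assoc _ _ _))
      exact (pullback.lift_fst _ _ _).symm
    · rw [pullback.lift_snd, Category.assoc]
      exact hm2.symm.trans (congrArg (m ≫ ·) (congrArg (fun l : W ⟶ U k => l.left) b2).symm)
  rw [ea, eb, Category.assoc, Category.assoc]
  exact congrArg (m ≫ ·) (congrArg (fun l : W ⟶ U' k => l.left) key)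

/-- The descent datum of the local representatives. -/
def datum : SchDDFam (fun i => (U i).hom) where
  obj i := Over.mk (p i).left
  φ T i j x₀ x₁ h :=
    { toFun := phiFun hr x₀ x₁ h
      invFun := phiFun hr x₁ x₀ h.symm
      left_inv := fun v => (phiFun_comp hr x₀ x₁ x₀ h h.symm v).trans (phiFun_self hr x₀ v)
      right_inv := fun v => (phiFun_comp hr x₁ x₀ x₁ h.symm h v).trans (phiFun_self hr x₁ v) }
  φ_natural T T' g i j x₀ x₁ h y₀ y₁ hy₀ hy₁ h' v v' hv := by
    change pullback.lift v'.1 y₁ _ ≫ _ = g ≫ pullback.lift v.1 x₁ _ ≫ _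
    rw [← Category.assoc g]
    congr 1
    apply pullback.hom_ext
    · rw [pullback.lift_fst, Category.assoc, pullback.lift_fst]; exact hv
    · rw [pullback.lift_snd, Category.assoc, pullback.lift_snd]; exact hy₁.symm
  φ_self T i x v := phiFun_self hr x v
  φ_comp T i j k x₀ x₁ x₂ h₀₁ h₁₂ v := phiFun_comp hr x₀ x₁ x₂ h₀₁ h₁₂ v

omit hr in
theorem fpqc_of_covers (hU : EtCoh.Covers U) :
    Presieve.ofArrows (fun i => (U i).left) (fun i => (U i).hom) ∈ Scheme.fpqcPrecoverage X := by
  haveI : ∀ i, Etale (U i).hom := fun i => (U i).prop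
  refine H13AlgSp.mem_fpqcPrecoverage_of_flat _ (fun i => inferInstance)
    (fun x => let ⟨i, y, hy⟩ := hU x; ⟨i, y, hy⟩) fun Z hZ => ?_
  exact IsCompactOpenCovered.of_isOpenMap (fun i => (U i).hom.continuous) (fun i => (U i).hom.isOpenMap)
    (fun x _ => let ⟨i, y, hy⟩ := hU x; ⟨i, y, hy⟩) Z.2 hZ.isCompact

omit hr in
theorem isFinite_of_pullback (hU : EtCoh.Covers U) {Y : Scheme.{u}} (q : Y ⟶ X)
    (h : ∀ i, IsFinite (pullback.fst (U i).hom q)) : IsFinite q := by
  refine (IsZariskiLocalAtTarget.iff_of_iSup_eq_top (P := @IsFinite) (fun V : X.affineOpens => V.1)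
    (iSup_affineOpens_eq_top X)).2 fun V => ?_
  obtain ⟨n, a, O, g, -, hg, hfl, hsu, hqc⟩ :=
    H13Desc.fpqc_exists_affine_refinement (fpqc_of_covers hU) V.1 V.2
  haveI hk : ∀ k, IsFinite (pullback.fst (g k) (q ∣_ V.1)) := fun k => by
    haveI := h (a k)
    have h1 : IsPullback (pullback.snd (g k) (q ∣_ V.1) ≫ (q ⁻¹ᵁ V.1).ι) (pullback.fst (g k) (q ∣_ V.1)) q
        (g k ≫ V.1.ι) :=
      (IsPullback.of_hasPullback (g k) (q ∣_ V.1)).flip.paste_horiz (isPullback_morphismRestrict q V.1).flip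
    rw [hg k] at h1
    exact MorphismProperty.of_isPullback (P := @IsFinite)
      (IsPullback.of_right' h1 (IsPullback.of_hasPullback (U (a k)).hom q).flip) inferInstance
  refine MorphismProperty.of_pullback_fst_of_descendsAlong (P := @IsFinite) (Q := H18Descent.fpqc)
    (f := Sigma.desc g) ⟨⟨hsu, hfl⟩, hqc⟩ ?_
  refine (IsZariskiLocalAtTarget.iff_of_openCover (P := @IsFinite) (sigmaOpenCover fun k => (O k).toScheme)).2
    fun k => ?_
  have h2 : IsPullback (pullback.snd (g k) (q ∣_ V.1)) (pullback.fst (g k) (q ∣_ V.1)) (q ∣_ V.1)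
      (Sigma.ι (fun k => (O k).toScheme) k ≫ Sigma.desc g) := by
    rw [Sigma.ι_desc]
    exact (IsPullback.of_hasPullback (g k) (q ∣_ V.1)).flip
  let q' := q ∣_ V.1
  have h3 := (IsPullback.of_hasPullback (pullback.fst (Sigma.desc g) q')
    (Sigma.ι (fun k => (O k).toScheme) k)).paste_horiz (IsPullback.of_hasPullback (Sigma.desc g) q').flip
  have h4 : IsFinite (pullback.snd (pullback.fst (Sigma.desc g) q') (Sigma.ι (fun k => (O k).toScheme) k)) := by
    rw [← h3.isoIsPullback_hom_snd _ _ h2]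
    infer_instance
  exact h4

include hr in
/-- Local representatives glue to a finite etale representing scheme. -/
theorem exists_representable (hU : EtCoh.Covers U) (hp : ∀ i, IsFinite (p i).left) :
    ∃ (Y : X.Etale) (_ : IsFinite Y.hom),
      Nonempty (F.obj ≅ yoneda.obj Y ⋙ uliftFunctor.{u + 1}) := by
  haveI : ∀ i, Etale (U i).hom := fun i => (U i).prop
  haveI : ∀ i, Etale (U' i).hom := fun i => (U' i).prop
  haveI : ∀ i, Etale (p i).left := fun i => inferInstance
  obtain ⟨Y, ⟨e⟩⟩ : (toDDFam fun i => (U i).hom).essImage (datum hr) :=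
    H13Desc.Eff.IndQA.isEffective _ (fpqc_of_covers hU) _ fun i => by
      haveI := hp i
      exact H7Flat.indQA_of_isSeparated (p i).left
  let ei : ∀ i, pullback (U i).hom Y.hom ⟶ (U' i).left := fun i => (e.hom.hom i).left
  have hei : ∀ i, ei i ≫ (p i).left = pullback.fst (U i).hom Y.hom := fun i => Over.w (e.hom.hom i)
  haveI : ∀ i, IsIso (ei i) := fun i => ⟨(e.inv.hom i).left,
    congrArg (fun k : _ ⟶ _ => (k : Desc.SchDDFam.Hom _ _).hom i |>.left) e.hom_inv_id,
    congrArg (fun k : _ ⟶ _ => (k : Desc.SchDDFam.Hom _ _).hom i |>.left) e.inv_hom_id⟩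
  haveI hfst : ∀ i, IsFinite (pullback.fst (U i).hom Y.hom) := fun i => by
    haveI := hp i
    rw [← hei i]
    infer_instance
  haveI hYfin : IsFinite Y.hom := isFinite_of_pullback hU Y.hom hfst
  haveI hYet : Etale Y.hom := by
    refine H12AlgSp.EtaleSource.of_etale_covering @Etale H12AlgSp.EtaleSource.descends_etale Y.hom fun y => ?_
    obtain ⟨i, x, hx⟩ := hU (Y.hom y)
    obtain ⟨z, -, hz⟩ := Scheme.Pullback.exists_preimage_pullback (f := (U i).hom) (g := Y.hom) x y hx
    haveI : Etale (pullback.fst (U i).hom Y.hom) := by rw [← hei i]; infer_instance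
    refine ⟨_, pullback.snd (U i).hom Y.hom, inferInstance, ⟨z, hz⟩, ?_⟩
    rw [← pullback.condition]
    exact inferInstanceAs (Etale _)
  let Ye : X.Etale := MorphismProperty.Over.mk ⊤ Y.hom hYet
  have hsh := (isSheaf_iff_isSheaf_of_type _ _).1
    F.property
  let P : ι → X.Etale := fun i => mulObj (U i) Ye
  let eE : ∀ i, P i ⟶ U' i := fun i => MorphismProperty.Over.homMk (ei i) (by
    rw [← MorphismProperty.Over.w (p i)]
    exact (reassoc_of% hei i) (U i).hom) trivial
  have heE : ∀ i, eE i ≫ p i = mulFst (U i) Ye := fun i => MorphismProperty.Over.Hom.ext (hei i)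
  let R : Presieve Ye := Presieve.ofArrows P fun i => mulSnd (U i) Ye
  have hR : Sieve.generate R ∈ X.smallEtaleTopology _ := H18Et.mem_topology_of_forall_point _ fun y => by
    obtain ⟨i, x, hx⟩ := hU (Y.hom y)
    obtain ⟨z, -, hz⟩ := Scheme.Pullback.exists_preimage_pullback (f := (U i).hom) (g := Y.hom) x y hx
    exact ⟨P i, mulSnd (U i) Ye, z, ⟨_, 𝟙 _, _, Presieve.ofArrows.mk i, Category.id_comp _⟩, hz⟩
  obtain ⟨σ, hσ, -⟩ := (Presieve.isSheafFor_arrows_iff F.obj _).1
    ((Presieve.isSheafFor_iff_generate R).2 (hsh _ hR)) (fun i => F.obj.map (eE i).op (s i))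
    (fun i j Z a b hab => by
      change F.obj.map a.op (F.obj.map (eE i).op (s i)) = F.obj.map b.op (F.obj.map (eE j).op (s j))
      let x₀ := (a ≫ mulFst (U i) Ye).left
      let x₁ := (b ≫ mulFst (U j) Ye).left
      have hx : x₀ ≫ (U i).hom = x₁ ≫ (U j).hom :=
        (MorphismProperty.Over.w (a ≫ mulFst (U i) Ye)).trans (MorphismProperty.Over.w (b ≫ mulFst (U j) Ye)).symm
      let v : Lifts ((canonicalDDFam (fun i => (U i).hom) Y).obj i) x₀ := ⟨a.left, rfl⟩
      let w : Lifts ((datum hr).obj i) x₀ := e.hom.push v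
      have hc := e.hom.comm x₀ x₁ hx v w rfl
      have hvb : ((canonicalDDFam (fun i => (U i).hom) Y).φ x₀ x₁ hx v).1 = b.left := by
        refine pullback.hom_ext (pullback.lift_fst _ _ _) ?_
        exact (pullback.lift_snd _ _ _).trans (congrArg (fun k : Z ⟶ Ye => k.left) hab)
      let c : Z ⟶ mulObj (U' i) (U j) := MorphismProperty.Over.homMk
        (pullback.lift w.1 x₁ (over_w hx w)) ((pullback.lift_fst_assoc _ _ _ _).trans
          (MorphismProperty.Over.w (a ≫ eE i))) trivial
      have hb : b ≫ eE j = c ≫ trans hr i j := MorphismProperty.Over.Hom.ext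
        ((congrArg (· ≫ ei j) hvb.symm).trans hc.symm)
      have hca : c ≫ mulFst (U' i) (U j) = a ≫ eE i := MorphismProperty.Over.Hom.ext (pullback.lift_fst _ _ _)
      rw [map_map, map_map, hb, ← map_map (trans hr i j), (trans_spec hr i j).2, map_map, hca])
  have hσ' : ∀ i, F.obj.map (mulSnd (U i) Ye).op σ = F.obj.map (eE i).op (s i) := hσ
  have small : ∀ (T : X.Etale) (i : ι) (g : T ⟶ U i) (t : EtDesc.sect F T),
      ∃! k : T ⟶ Ye, F.obj.map k.op σ = t := by
    intro T i g t
    obtain ⟨r, ⟨hr1, hr2⟩, hru⟩ := hr i T g t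
    let rY : T ⟶ P i := MorphismProperty.Over.homMk (r.left ≫ inv (ei i)) (by
      rw [← MorphismProperty.Over.w g, ← hr1]
      change (r.left ≫ inv (ei i)) ≫ pullback.fst _ _ ≫ (U i).hom = (r.left ≫ (p i).left) ≫ (U i).hom
      rw [← hei i]
      simp only [Category.assoc, IsIso.inv_hom_id_assoc]) trivial
    have hrY : rY ≫ eE i = r := MorphismProperty.Over.Hom.ext
      ((Category.assoc r.left (inv (ei i)) (ei i)).trans
        ((congrArg (r.left ≫ ·) (IsIso.inv_hom_id (ei i))).trans (Category.comp_id _)))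
    refine ⟨rY ≫ mulSnd (U i) Ye, ?_, fun k hk => ?_⟩
    · change F.obj.map _ σ = t
      rw [← map_map, hσ', map_map, hrY, hr2]
    · let kP : T ⟶ P i := MorphismProperty.Over.homMk
        (pullback.lift g.left k.left ((MorphismProperty.Over.w g).trans (MorphismProperty.Over.w k).symm))
        ((pullback.lift_fst_assoc _ _ _ _).trans (MorphismProperty.Over.w g)) trivial
      have hk1 : kP ≫ mulSnd (U i) Ye = k := MorphismProperty.Over.Hom.ext (pullback.lift_snd _ _ _)
      have hk2 : kP ≫ mulFst (U i) Ye = g := MorphismProperty.Over.Hom.ext (pullback.lift_fst _ _ _)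
      have hkr : kP ≫ eE i = r := hru _ ⟨by rw [Category.assoc, heE, hk2],
        by rw [← map_map, ← hσ', map_map, hk1, hk]⟩
      rw [← hk1]
      congr 1
      refine MorphismProperty.Over.Hom.ext ((cancel_mono (ei i)).1 ?_)
      exact congrArg (fun l : T ⟶ U' i => l.left) (hkr.trans hrY.symm)
  have hb : ∀ T : X.Etaleᵒᵖ, Function.Bijective
      (fun k : ULift.{u + 1} (T.unop ⟶ Ye) => F.obj.map k.down.op σ) := by
    intro T
    refine ⟨fun a b hab => ULift.ext _ _ ?_, fun t => ?_⟩
    · refine MorphismProperty.Over.Hom.ext ?_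
      obtain ⟨m, -, hmu⟩ := H18Torsor.existsUnique_glue
        (Presieve.ofArrows (fun i => (U i).left) fun i => (U i).hom) (fpqc_of_covers hU) T.unop.hom
        (fun w _ => w ≫ a.down.left) (fun g w _ _ => Category.assoc _ _ _)
      refine (hmu a.down.left fun w _ => rfl).trans (hmu b.down.left fun {W} w hw => ?_).symm
      obtain ⟨_, h, _, ⟨i⟩, hh⟩ := hw
      let Ti := mulObj (U i) T.unop
      obtain ⟨_, -, huniq⟩ := small Ti i (mulFst _ _) (F.obj.map (mulSnd (U i) T.unop).op (F.obj.map a.down.op σ))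
      have h1 : mulSnd (U i) T.unop ≫ a.down = mulSnd (U i) T.unop ≫ b.down :=
        (huniq _ (map_map a.down _ σ).symm).trans (huniq _
          ((map_map b.down _ σ).symm.trans (congrArg (F.obj.map (mulSnd (U i) T.unop).op) hab.symm))).symm
      have h2 := congrArg (fun l : Ti ⟶ Ye => pullback.lift h w hh ≫ l.left) h1
      exact ((congrArg (· ≫ b.down.left) (pullback.lift_snd h w hh)).symm.trans (Category.assoc _ _ _)).trans
        (h2.symm.trans (((Category.assoc _ _ _).symm).trans (congrArg (· ≫ a.down.left) (pullback.lift_snd h w hh))))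
    · let Ti := fun i => mulObj (U i) T.unop
      choose k hk hku using fun i => small (Ti i) i (mulFst _ _) (F.obj.map (mulSnd (U i) T.unop).op t)
      have agree : ∀ {W : Scheme.{u}} (w : W ⟶ T.unop.left) (i j : ι) (a : W ⟶ (U i).left) (b : W ⟶ (U j).left)
          (ha : a ≫ (U i).hom = w ≫ T.unop.hom) (hb : b ≫ (U j).hom = w ≫ T.unop.hom),
          pullback.lift a w ha ≫ (k i).left = pullback.lift b w hb ≫ (k j).left := by
        intro W w i j a b ha hb
        let Q := prodObj (mulSnd (U i) T.unop) (mulSnd (U j) T.unop)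
        obtain ⟨_, -, huniq⟩ := small Q i (prodFst _ _ ≫ mulFst _ _)
          (F.obj.map (prodFst (mulSnd (U i) T.unop) (mulSnd (U j) T.unop) ≫ mulSnd (U i) T.unop).op t)
        have h1 : prodFst (mulSnd (U i) T.unop) (mulSnd (U j) T.unop) ≫ k i =
            prodSnd (mulSnd (U i) T.unop) (mulSnd (U j) T.unop) ≫ k j :=
          (huniq _ (((map_map (k i) _ σ).symm.trans (congrArg _ (hk i))).trans (map_map _ _ t))).trans
            (huniq _ (((map_map (k j) _ σ).symm.trans (congrArg _ (hk j))).trans ((map_map _ _ t).trans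
              (congrArg (fun l : Q ⟶ T.unop => F.obj.map l.op t) (prod_condition _ _).symm)))).symm
        let z : W ⟶ Q.left := pullback.lift (pullback.lift a w ha) (pullback.lift b w hb)
          ((pullback.lift_snd _ _ _).trans (pullback.lift_snd _ _ _).symm)
        have h2 := congrArg (fun l : Q ⟶ Ye => z ≫ l.left) h1
        exact ((congrArg (· ≫ (k i).left) (pullback.lift_fst _ _ _)).symm.trans (Category.assoc _ _ _)).trans
          (h2.trans (((Category.assoc _ _ _).symm).trans (congrArg (· ≫ (k j).left) (pullback.lift_snd _ _ _))))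
      have small' : ∀ {W : Scheme.{u}} (w : W ⟶ T.unop.left),
          H18Torsor.IsSmall (Presieve.ofArrows (fun i => (U i).left) fun i => (U i).hom) (w ≫ T.unop.hom) →
          ∃ l : W ⟶ Y.left, ∀ (i : ι) (a : W ⟶ (U i).left) (ha : a ≫ (U i).hom = w ≫ T.unop.hom),
            l = pullback.lift a w ha ≫ (k i).left := by
        rintro W w ⟨_, h, _, ⟨j⟩, hh⟩
        exact ⟨pullback.lift h w hh ≫ (k j).left, fun i a ha => agree w j i h a hh ha⟩
      choose G hG using @small'
      obtain ⟨m, hm, -⟩ := H18Torsor.existsUnique_glue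
        (Presieve.ofArrows (fun i => (U i).left) fun i => (U i).hom) (fpqc_of_covers hU) T.unop.hom
        (fun w hw => G w hw) (fun {W W'} g w hw hw' => by
          obtain ⟨_, h, _, ⟨j⟩, hh⟩ := id hw
          rw [hG w hw j h hh, hG (g ≫ w) hw' j (g ≫ h) (by simp [hh])]
          refine Eq.trans ?_ (Category.assoc _ _ _)
          congr 1
          apply pullback.hom_ext <;> simp)
      have hmi : ∀ i, pullback.snd (U i).hom T.unop.hom ≫ m = (k i).left := fun i => by
        rw [hm _ ⟨_, pullback.fst _ _, _, Presieve.ofArrows.mk i, pullback.condition⟩,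
          hG _ _ i (pullback.fst _ _) pullback.condition, show pullback.lift (pullback.fst (U i).hom T.unop.hom)
            (pullback.snd _ _) pullback.condition = 𝟙 _ by apply pullback.hom_ext <;> simp, Category.id_comp]
      have hw : m ≫ Y.hom = T.unop.hom := by
        have hf := H18Torsor.existsUnique_glue
          (Presieve.ofArrows (fun i => (U i).left) fun i => (U i).hom) (fpqc_of_covers hU) T.unop.hom
          (fun w _ => w ≫ T.unop.hom) (fun g w _ _ => Category.assoc _ _ _)
        refine hf.unique (fun {W} w hw => ?_) (fun w _ => rfl)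
        obtain ⟨_, h, _, ⟨i⟩, hh⟩ := hw
        rw [← pullback.lift_snd h w hh, Category.assoc, Category.assoc, reassoc_of% hmi i]
        exact congrArg (pullback.lift h w hh ≫ ·) (MorphismProperty.Over.w (k i) |>.trans pullback.condition)
      refine ⟨⟨MorphismProperty.Over.homMk m hw trivial⟩, sect_ext_local _ _ fun x => ?_⟩
      obtain ⟨i, y, hy⟩ := hU (T.unop.hom x)
      obtain ⟨z, -, hz⟩ := Scheme.Pullback.exists_preimage_pullback (f := (U i).hom) (g := T.unop.hom) y x hy
      refine ⟨Ti i, mulSnd (U i) T.unop, z, hz, ?_⟩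
      rw [map_map, ← hk i]
      exact congrArg (fun l : Ti i ⟶ Ye => F.obj.map l.op σ) (MorphismProperty.Over.Hom.ext (hmi i))
  refine ⟨Ye, hYfin, ⟨(NatIso.ofComponents (fun T => (Equiv.ofBijective _ (hb T)).toIso) fun {T T'} m => ?_).symm⟩⟩
  ext k
  exact (map_map (k : ULift.{u + 1} (T.unop ⟶ Ye)).down m.unop σ).symm

/-- Finite locally constant sheaves of sets are representable by finite etale schemes. -/
theorem exists_repSh_iso (F : EtDesc.Sh X) (h : CohProp.IsFinLocConstSet F) :
    ∃ (Y : X.Etale) (_ : IsFinite Y.hom), Nonempty (F ≅ EtDesc.repSh Y) := by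
  obtain ⟨ι, U, hU, hM⟩ := h
  have : ∀ i, ∃ (U' : X.Etale) (p : U' ⟶ U i) (_ : IsFinite p.left) (s : EtDesc.sect F U'),
      ∀ (T : X.Etale) (g : T ⟶ U i) (t : EtDesc.sect F T),
        ∃! k : T ⟶ U', k ≫ p = g ∧ F.obj.map k.op s = t := fun i => by
    obtain ⟨M, hfin, ⟨e⟩⟩ := hM i
    haveI := hfin
    have h2 := H25Constr.isConstOn_sheafify ((Functor.const X.Etaleᵒᵖ).obj M) (U i) (𝟙 M)
      (fun Ω _ _ ξ x => H25Constr.const_fiber_bijective (U i) M Ω ξ x)
    obtain ⟨c, hc⟩ := H18Et.LC.exists_isConstOn_of_iso (e ≪≫ (H18Et.LC.constIso h2).symm)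
    exact exists_rep (U i) (ULift.{u} (Fin (Nat.card M))) (Equiv.ulift.trans (Finite.equivFin M).symm) hc
  choose U' p hp s hs using this
  obtain ⟨Y, hY, ⟨e⟩⟩ := exists_representable (U := U) (U' := U') (p := p) (s := s) hs hU hp
  refine ⟨Y, hY, ⟨?_⟩⟩
  exact (asIso ((sheafificationAdjunction X.smallEtaleTopology (Type (u + 1))).counit.app F)).symm ≪≫
    (presheafToSheaf X.smallEtaleTopology (Type (u + 1))).mapIso e

end Groth.Agent.H25Constr.LccSet
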