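import Groth.Agent.H16Derived.GrothSS
import Groth.Prelude.Def_SixF1
import Mathlib.CategoryTheory.Preadditive.Injective.Preserves

/-! # The canonical comparison `R⁺H ⟶ R⁺F ⋙ R⁺G` is an isomorphism when `F` preserves injectives -/

set_option backward.isDefEq.respectTransparency false

universe w w' w'' v v' v'' u u'

open CategoryTheory CategoryTheory.Limits

namespace Groth.Agent.H25Constr

variable {A : Type u} [Category.{v} A] [Abelian A] [EnoughInjectives A] [HasDerivedCategory.{w} A]
  {B : Type u} [Category.{v} B] [Abelian B] [EnoughInjectives B] [HasDerivedCategory.{w'} B]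
  {C : Type u'} [Category.{v''} C] [Abelian C] [HasDerivedCategory.{w''} C]

theorem isIso_unit_app (G : B ⥤ C) [G.Additive] (X : HomotopyCategory.Plus (InjectiveObject B)) :
    IsIso (G.rightDerivedFunctorPlusUnit.app ((InjectiveObject.ι B).mapHomotopyCategoryPlus.obj X)) := by
  infer_instance

theorem isIso_rPlusDesc₂ {F : A ⥤ B} {G : B ⥤ C} {H : A ⥤ C} [F.Additive] [G.Additive] [H.Additive]
    [F.PreservesInjectiveObjects] (θ : H ⟶ F ⋙ G) [IsIso θ] : IsIso (EtSix.rPlusDesc₂ θ) := by
  let T' : InjectiveObject A ⥤ InjectiveObject B :=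
    ObjectProperty.lift _ (InjectiveObject.ι A ⋙ F) fun X => F.injective_obj_of_injective X.property
  haveI : T'.Additive := { map_add := by intros; ext; exact F.map_add }
  let eT : (InjectiveObject.ι A).mapHomotopyCategoryPlus ⋙ F.mapHomotopyCategoryPlus ≅
      T'.mapHomotopyCategoryPlus ⋙ (InjectiveObject.ι B).mapHomotopyCategoryPlus :=
    Functor.mapHomotopyCategoryPlusCompIso (H := InjectiveObject.ι A ⋙ F) (Iso.refl _) ≪≫
      (Functor.mapHomotopyCategoryPlusCompIso (F := T') (G := InjectiveObject.ι B)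
        (H := InjectiveObject.ι A ⋙ F) (Iso.refl _)).symm
  have key : ∀ K : HomotopyCategory.Plus (InjectiveObject A),
      IsIso ((EtSix.rPlusDesc₂ θ).app ((H16Derived.GrothSS.J A).obj K)) := by
    intro K
    let K' := (InjectiveObject.ι A).mapHomotopyCategoryPlus.obj K
    have hfac := H.rightDerivedFunctorPlus.rightDerived_fac_app H.rightDerivedFunctorPlusUnit
      (HomotopyCategory.Plus.quasiIso A) (F.rightDerivedFunctorPlus ⋙ G.rightDerivedFunctorPlus)
      (EtSix.rPlusUnit₂ θ) K'
    haveI : IsIso (H.rightDerivedFunctorPlusUnit.app K') := isIso_unit_app H K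
    haveI : IsIso (F.rightDerivedFunctorPlusUnit.app K') := isIso_unit_app F K
    haveI : IsIso (G.rightDerivedFunctorPlusUnit.app (F.mapHomotopyCategoryPlus.obj K')) :=
      (NatTrans.isIso_app_iff_of_iso G.rightDerivedFunctorPlusUnit (eT.app K)).2 (isIso_unit_app G _)
    haveI : IsIso (NatTrans.mapHomotopyCategory θ (ComplexShape.up ℤ)) := by
      refine ⟨NatTrans.mapHomotopyCategory (inv θ) _, ?_, ?_⟩ <;>
        rw [← NatTrans.mapHomotopyCategory_comp] <;> simp
    haveI : IsIso (EtSix.plusNatTrans θ) := by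
      haveI : IsIso (Functor.whiskerLeft (HomotopyCategory.Plus.ι A)
          (NatTrans.mapHomotopyCategory θ (ComplexShape.up ℤ))) := inferInstance
      let e := (HomotopyCategory.plus C).fullyFaithfulι.whiskeringRight (HomotopyCategory.Plus A)
      rw [EtSix.plusNatTrans]
      exact @Functor.FullyFaithful.isIso_of_isIso_map _ _ _ _ _ e _ _ _ (by rw [e.map_preimage]; infer_instance)
    haveI : IsIso ((EtSix.rPlusUnit₂ θ).app K') := by
      dsimp [EtSix.rPlusUnit₂]
      infer_instance
    change IsIso ((EtSix.rPlusDesc₂ θ).app (DerivedCategory.Plus.Qh.obj K'))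
    exact (isIso_comp_left_iff (H.rightDerivedFunctorPlusUnit.app K') _).1 (hfac ▸ inferInstance)
  refine (NatTrans.isIso_iff_isIso_app _).2 fun X => ?_
  exact (NatTrans.isIso_app_iff_of_iso _ ((H16Derived.GrothSS.J A).objObjPreimageIso X)).1 (key _)

end Groth.Agent.H25Constr
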